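import Mathlib

/-!
Lifting points of a formally smooth algebra along `k' ⊗[k] A → A` for a finite field extension.
-/

namespace Groth.Agent.Alg80.PointLift

open TensorProduct

universe u

/-- A formally smooth algebra with some point over `A` has every point over `A ⧸ I` lifting, if
some power of the finitely generated ideal `I` is idempotent. -/
theorem exists_lift_of_pow_succ_eq {R₀ : Type u} [CommRing R₀] {R A : Type u} [CommRing R]
    [CommRing A] [Algebra R₀ R] [Algebra R₀ A] [Algebra.FormallySmooth R₀ R]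
    (I : Ideal A) (hfg : I.FG) (n : ℕ) (hn : I ^ (n + 1) = I ^ n) (c : R →ₐ[R₀] A)
    (ψ : R →ₐ[R₀] A ⧸ I) :
    ∃ φ : R →ₐ[R₀] A, (Ideal.Quotient.mkₐ R₀ I).comp φ = ψ := by
  have hstab : ∀ m, I ^ (n + m) = I ^ n := by
    intro m
    induction m with
    | zero => rfl
    | succ m ih => rw [← add_assoc, pow_succ, ih, ← pow_succ, hn]
  have hidem : IsIdempotentElem (I ^ n) := by
    show I ^ n * I ^ n = I ^ n
    rw [← pow_add, hstab]
  obtain ⟨ε, hε, hJ⟩ := (Ideal.isIdempotentElem_iff_of_fg _ (hfg.pow (n := n))).mp hidem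
  -- lift to `A ⧸ I ^ n`
  have hle : I ^ (n + 1) ≤ I := Ideal.pow_le_self (by omega)
  obtain ⟨φ₀, hφ₀⟩ : ∃ φ₀ : R →ₐ[R₀] A ⧸ I ^ (n + 1),
      (Ideal.Quotient.factorₐ R₀ hle).comp φ₀ = ψ := by
    have hnil : IsNilpotent
        (RingHom.ker (Ideal.Quotient.factorₐ R₀ hle : A ⧸ I ^ (n + 1) →ₐ[R₀] A ⧸ I)) := by
      refine ⟨n + 1, ?_⟩
      have : RingHom.ker (Ideal.Quotient.factorₐ R₀ hle : A ⧸ I ^ (n + 1) →ₐ[R₀] A ⧸ I) ≤
          I.map (Ideal.Quotient.mk (I ^ (n + 1))) := by
        intro x hx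
        obtain ⟨x, rfl⟩ := Ideal.Quotient.mk_surjective x
        apply Ideal.mem_map_of_mem
        rw [← Ideal.Quotient.eq_zero_iff_mem]
        exact hx
      refine le_bot_iff.mp (le_trans (Ideal.pow_right_mono this _) ?_)
      rw [← Ideal.map_pow, Ideal.map_quotient_self]
    exact ⟨Algebra.FormallySmooth.liftOfSurjective ψ (Ideal.Quotient.factorₐ R₀ hle)
      (Ideal.Quotient.factor_surjective hle) hnil,
      Algebra.FormallySmooth.comp_liftOfSurjective ψ (Ideal.Quotient.factorₐ R₀ hle) _ hnil⟩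
  -- combine with `c` on the complementary factor
  have hεmem : ε ∈ I ^ (n + 1) := by
    rw [hn, hJ]; exact Submodule.mem_span_singleton_self _
  have hspan : I ^ (n + 1) = Ideal.span {ε} := by rw [hn, hJ]
  have hkill : ∀ x ∈ I ^ (n + 1), (1 - ε) * x = 0 := by
    intro x hx
    rw [hspan, Ideal.mem_span_singleton] at hx
    obtain ⟨y, rfl⟩ := hx
    rw [← mul_assoc, sub_mul, one_mul, hε.eq, sub_self, zero_mul]
  choose s hs using fun r => Ideal.Quotient.mk_surjective (φ₀ r)
  have hs' : ∀ r a, Ideal.Quotient.mk (I ^ (n + 1)) a = φ₀ r → (1 - ε) * a = (1 - ε) * s r := by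
    intro r a ha
    rw [← sub_eq_zero, ← mul_sub]
    apply hkill
    rw [← Ideal.Quotient.eq, ha, hs]
  have hε1 : (1 - ε) * (1 - ε) = 1 - ε := hε.one_sub.eq
  have hε0 : ε * (1 - ε) = 0 := by rw [mul_sub, mul_one, hε.eq, sub_self]
  let φ : R →+* A :=
  { toFun := fun r => (1 - ε) * s r + ε * c r
    map_one' := by
      rw [← hs' 1 1 (by simp), map_one c]; ring
    map_zero' := by
      rw [← hs' 0 0 (by simp), map_zero c]; ring
    map_add' := fun a b => by
      rw [← hs' (a + b) (s a + s b) (by simp [hs]), map_add c]; ring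
    map_mul' := fun a b => by
      rw [← hs' (a * b) (s a * s b) (by simp [hs]), map_mul c]
      linear_combination (-(s a * s b)) * hε1 - (c a * c b) * hε.eq
        - (s a * c b + s b * c a) * hε0 }
  refine ⟨{ φ with commutes' := fun r => ?_ }, ?_⟩
  · show (1 - ε) * s (algebraMap R₀ R r) + ε * c (algebraMap R₀ R r) = _
    rw [← hs' (algebraMap R₀ R r) (algebraMap R₀ A r)
      (by rw [φ₀.commutes, ← Ideal.Quotient.algebraMap_eq, ← IsScalarTower.algebraMap_apply]),
      c.commutes]
    ring
  · ext r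
    show Ideal.Quotient.mk I ((1 - ε) * s r + ε * c r) = ψ r
    have hεI : Ideal.Quotient.mk I ε = 0 := Ideal.Quotient.eq_zero_iff_mem.mpr (hle hεmem)
    simp only [map_add, map_mul, map_sub, map_one, hεI, zero_mul, sub_zero, one_mul, add_zero]
    rw [← hφ₀, AlgHom.comp_apply, ← hs r]
    rfl

section

variable (k k' : Type u) [Field k] [Field k'] [Algebra k k'] [Module.Finite k k']
variable (A : Type u) [CommRing A] [Algebra k A] [Algebra k' A] [IsScalarTower k k' A]

/-- The multiplication `k' ⊗[k] A → A`, as a map of `k'`-algebras. -/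
noncomputable def mulMap : k' ⊗[k] A →ₐ[k'] A :=
  Algebra.TensorProduct.lift (Algebra.ofId k' A) (AlgHom.id k A) (fun _ _ => Commute.all _ _)

@[simp] lemma mulMap_tmul (x : k') (a : A) : mulMap k k' A (x ⊗ₜ a) = algebraMap k' A x * a := by
  simp [mulMap]

lemma mulMap_surjective : Function.Surjective (mulMap k k' A) := fun a => ⟨1 ⊗ₜ a, by simp⟩

lemma ker_mulMap :
    RingHom.ker (mulMap k k' A) = Ideal.map
      (Algebra.TensorProduct.map (AlgHom.id k' k') ((Algebra.ofId k' A).restrictScalars k))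
      (RingHom.ker (mulMap k k' k')) := by
  apply le_antisymm
  · intro t ht
    set J := Ideal.map
      (Algebra.TensorProduct.map (AlgHom.id k' k') ((Algebra.ofId k' A).restrictScalars k))
      (RingHom.ker (mulMap k k' k')) with hJ
    have key : ∀ t : k' ⊗[k] A, t - 1 ⊗ₜ mulMap k k' A t ∈ J := by
      intro t
      induction t using TensorProduct.induction_on with
      | zero => simp
      | tmul x a =>
        have hgen : x ⊗ₜ[k] (1 : A) - 1 ⊗ₜ algebraMap k' A x ∈ J := by
          have : x ⊗ₜ[k] (1 : k') - 1 ⊗ₜ x ∈ RingHom.ker (mulMap k k' k') := by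
            simp [RingHom.mem_ker, map_sub]
          have := Ideal.mem_map_of_mem (Algebra.TensorProduct.map (AlgHom.id k' k')
            ((Algebra.ofId k' A).restrictScalars k)) this
          simpa [map_sub] using this
        have := J.mul_mem_right ((1 : k') ⊗ₜ[k] a) hgen
        simpa [sub_mul, Algebra.TensorProduct.tmul_mul_tmul] using this
      | add p q hp hq =>
        have := J.add_mem hp hq
        convert this using 1
        rw [map_add, tmul_add]; abel
    simpa [RingHom.mem_ker.mp ht] using key t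
  · rw [Ideal.map_le_iff_le_comap]
    intro t ht
    rw [Ideal.mem_comap, RingHom.mem_ker]
    have key : ∀ t : k' ⊗[k] k', mulMap k k' A
        ((Algebra.TensorProduct.map (AlgHom.id k' k') ((Algebra.ofId k' A).restrictScalars k)) t) =
        algebraMap k' A (mulMap k k' k' t) := by
      intro t
      induction t using TensorProduct.induction_on with
      | zero => simp
      | tmul x a => simp [map_mul]
      | add p q hp hq => simp [map_add, hp, hq]
    rw [key, RingHom.mem_ker.mp ht, map_zero]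

lemma ker_mulMap_fg : (RingHom.ker (mulMap k k' A)).FG := by
  rw [ker_mulMap]
  exact Ideal.FG.map ((isNoetherianRing_iff_ideal_fg _).mp
    (IsNoetherianRing.of_finite k (k' ⊗[k] k')) _) _

lemma exists_pow_succ_eq :
    ∃ n, RingHom.ker (mulMap k k' A) ^ (n + 1) = RingHom.ker (mulMap k k' A) ^ n := by
  haveI : IsArtinianRing (k' ⊗[k] k') := IsArtinianRing.of_finite k _
  obtain ⟨n, hn⟩ := IsArtinian.monotone_stabilizes
    ⟨fun i => OrderDual.toDual (RingHom.ker (mulMap k k' k') ^ i),
      fun i j hij => Ideal.pow_le_pow_right hij⟩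
  refine ⟨n, ?_⟩
  rw [ker_mulMap, ← Ideal.map_pow, ← Ideal.map_pow]
  congr 1
  exact (hn (n + 1) (by omega)).symm

lemma isNilpotent_ker_mulMap [IsPurelyInseparable k k'] :
    IsNilpotent (RingHom.ker (mulMap k k' A)) := by
  refine (ker_mulMap_fg k k' A).isNilpotent_iff_le_nilradical.mpr ?_
  rw [ker_mulMap, Ideal.map_le_iff_le_comap]
  intro t ht
  obtain ⟨n, hn, a, ha⟩ := IsPurelyInseparable.exists_pow_mem_range_tensorProduct t
  rw [Ideal.mem_comap]
  refine IsNilpotent.map ⟨n, ?_⟩ _
  rw [← ha]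
  suffices a = 0 by rw [this, map_zero]
  have h := congrArg (mulMap k k' k') ha
  rw [map_pow, RingHom.mem_ker.mp ht, zero_pow (by omega)] at h
  simpa using h

/-- Every `A`-point of a formally smooth `k'`-algebra comes from a `k' ⊗[k] A`-point, as soon as
the latter has any point. -/
theorem exists_lift_mulMap {R : Type u} [CommRing R] [Algebra k' R]
    [Algebra.FormallySmooth k' R] (c : R →ₐ[k'] k' ⊗[k] A) (ψ : R →ₐ[k'] A) :
    ∃ φ : R →ₐ[k'] k' ⊗[k] A, (mulMap k k' A).comp φ = ψ := by
  obtain ⟨n, hn⟩ := exists_pow_succ_eq k k' A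
  let e := Ideal.quotientKerAlgEquivOfSurjective (mulMap_surjective k k' A)
  obtain ⟨φ, hφ⟩ := exists_lift_of_pow_succ_eq _ (ker_mulMap_fg k k' A) n hn c
    (e.symm.toAlgHom.comp ψ)
  refine ⟨φ, ?_⟩
  ext r
  exact (congrArg e (DFunLike.congr_fun hφ r)).trans (e.apply_symm_apply (ψ r))

end

section

variable (k k' : Type u) [Field k] [Field k'] [Algebra k k'] [Module.Finite k k']
variable (R : Type u) [CommRing R] [Algebra k' R] [Nontrivial R] [Algebra.FiniteType k' R]
  [Algebra.FormallySmooth k' R]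

/-- A nonzero algebra of finite type has a point in every algebraically closed extension. -/
theorem exists_point_algClosed (L : Type u) [Field L] [IsAlgClosed L] [Algebra k' L] :
    Nonempty (R →ₐ[k'] L) := by
  obtain ⟨m, hm⟩ := Ideal.exists_maximal R
  letI : Field (R ⧸ m) := Ideal.Quotient.field m
  haveI : Module.Finite k' (R ⧸ m) := finite_of_finite_type_of_isJacobsonRing k' (R ⧸ m)
  exact ⟨(IsAlgClosed.lift (M := L) (S := R ⧸ m) (R := k')).comp (Ideal.Quotient.mkₐ k' m)⟩

/-- A nonempty smooth affine scheme over a finite extension `k'` of `k` has a point with values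
in `k' ⊗[k] K`, `K` algebraically closed. -/
theorem exists_point_tensor_algClosed (K : Type u) [Field K] [Algebra k K] [IsAlgClosed K] :
    Nonempty (R →ₐ[k'] k' ⊗[k] K) := by
  letI algK : Algebra K (k' ⊗[k] K) := Algebra.TensorProduct.rightAlgebra
  haveI : Module.Finite K (k' ⊗[k] K) := by
    let e : K ⊗[k] k' ≃ₐ[K] k' ⊗[k] K := AlgEquiv.ofRingEquiv
      (f := (Algebra.TensorProduct.comm k K k').toRingEquiv) (fun x => rfl)
    exact Module.Finite.equiv e.toLinearEquiv
  haveI : IsArtinianRing (k' ⊗[k] K) := IsArtinianRing.of_finite K _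
  set B := k' ⊗[k] K
  obtain ⟨N, hN⟩ := IsArtinianRing.isNilpotent_nilradical (R := B)
  -- a point on each residue field
  have hpt : ∀ I : MaximalSpectrum B, Nonempty (R →ₐ[k'] B ⧸ I.asIdeal) := by
    intro I
    letI : Field (B ⧸ I.asIdeal) := Ideal.Quotient.field I.asIdeal
    haveI : IsAlgClosed (B ⧸ I.asIdeal) :=
      IsAlgClosed.of_ringEquiv K (B ⧸ I.asIdeal) (RingEquiv.ofBijective (algebraMap K (B ⧸ I.asIdeal))
        (IsAlgClosed.algebraMap_bijective_of_isIntegral (k := K)))
    exact exists_point_algClosed k' R (B ⧸ I.asIdeal)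
  let p := fun I => (hpt I).some
  -- assemble on `B ⧸ nilradical B`
  haveI : IsReduced (B ⧸ nilradical B) :=
    (Ideal.isRadical_iff_quotient_reduced _).mp (Ideal.radical_isRadical _)
  haveI : IsArtinianRing (B ⧸ nilradical B) := inferInstance
  let toPi : B →ₐ[k'] (Π I : MaximalSpectrum B, B ⧸ I.asIdeal) :=
    Pi.algHom k' (fun I : MaximalSpectrum B => B ⧸ I.asIdeal)
      (fun I : MaximalSpectrum B => Ideal.Quotient.mkₐ k' I.asIdeal)
  have hker : ∀ x ∈ RingHom.ker toPi, x ∈ nilradical B := by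
    intro x hx
    rw [nilradical_eq_sInf, Ideal.mem_sInf]
    intro P hP
    haveI : P.IsPrime := hP
    exact Ideal.Quotient.eq_zero_iff_mem.mp
      (congrFun (RingHom.mem_ker.mp hx) ⟨P, Ideal.IsPrime.isMaximal' hP⟩)
  have hsurj : Function.Surjective toPi := by
    intro y
    obtain ⟨z, hz⟩ := Ideal.pi_quotient_surjective
      (fun I J hIJ => Ideal.isCoprime_iff_sup_eq.mpr
        (I.isMaximal.coprime_of_ne J.isMaximal (fun h => hIJ (MaximalSpectrum.ext h)))) y
    exact ⟨z, funext hz⟩
  have hnil : IsNilpotent (RingHom.ker toPi) :=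
    ⟨N, le_bot_iff.mp (le_trans (Ideal.pow_right_mono hker N) (le_of_eq hN))⟩
  exact ⟨Algebra.FormallySmooth.liftOfSurjective (Pi.algHom k' _ p) toPi hsurj hnil⟩

/-- Every `A`-point of a smooth affine `k'`-scheme comes from a `k' ⊗[k] A'`-point after an
injective extension `A → A'`. -/
theorem exists_extension_lift (A : Type u) [CommRing A] [Algebra k A] [Algebra k' A]
    [IsScalarTower k k' A] (ψ : R →ₐ[k'] A) :
    ∃ φ : R →ₐ[k'] k' ⊗[k] (A ⊗[k] AlgebraicClosure k),
      (mulMap k k' (A ⊗[k] AlgebraicClosure k)).comp φ =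
        (Algebra.TensorProduct.includeLeft (R := k) (S := k') (A := A)
          (B := AlgebraicClosure k)).comp ψ := by
  obtain ⟨c₀⟩ := exists_point_tensor_algClosed k k' R (AlgebraicClosure k)
  exact exists_lift_mulMap k k' _
    ((Algebra.TensorProduct.map (AlgHom.id k' k') Algebra.TensorProduct.includeRight).comp c₀) _

end

end Groth.Agent.Alg80.PointLift
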