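import Mathlib
import Groth.Agent.Alg80.PointLift

/-!
The algebra representing the Weil restriction of a finitely presented algebra along a finite
projective extension `B → B'`, and smoothness/surjectivity of the associated maps.
-/

namespace Groth.Agent.Alg80.WeilAlg

open TensorProduct

universe u

variable {B B' : Type u} [CommRing B] [CommRing B'] [Algebra B B']

/-- Change of coefficients `B' ⊗ A → B' ⊗ A'`. -/
noncomputable abbrev mapId {A A' : Type u} [CommRing A] [CommRing A'] [Algebra B A] [Algebra B A']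
    (g : A →ₐ[B] A') : B' ⊗[B] A →ₐ[B'] B' ⊗[B] A' :=
  Algebra.TensorProduct.map (AlgHom.id B' B') g

lemma mapId_comp {A₁ A₂ A₃ : Type u} [CommRing A₁] [CommRing A₂] [CommRing A₃] [Algebra B A₁]
    [Algebra B A₂] [Algebra B A₃] (g : A₂ →ₐ[B] A₃) (h : A₁ →ₐ[B] A₂) :
    mapId (B' := B') (g.comp h) = (mapId g).comp (mapId h) := by
  apply Algebra.TensorProduct.ext
  · exact AlgHom.ext fun x => by simp
  · exact AlgHom.ext fun x => by simp

section coef

variable {A : Type u} [CommRing A] [Algebra B A]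

/-- The coefficient of an element of `B' ⊗ A` for a linear form on `B'`. -/
noncomputable def coef (σ : B' →ₗ[B] B) : B' ⊗[B] A →ₗ[B] A :=
  (TensorProduct.lid B A).toLinearMap ∘ₗ σ.rTensor A

@[simp] lemma coef_tmul (σ : B' →ₗ[B] B) (x : B') (a : A) : coef σ (x ⊗ₜ a) = σ x • a := by
  simp [coef]

lemma coef_mapId {A' : Type u} [CommRing A'] [Algebra B A'] (σ : B' →ₗ[B] B) (g : A →ₐ[B] A')
    (z : B' ⊗[B] A) : coef σ (mapId g z) = g (coef σ z) := by
  induction z using TensorProduct.induction_on with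
  | zero => simp
  | tmul x a => simp [map_smul]
  | add p q hp hq => simp [map_add, hp, hq]

lemma sum_coef {n : ℕ} (b : Fin n → B') (σ : Fin n → B' →ₗ[B] B)
    (hbσ : ∀ x, ∑ l, σ l x • b l = x) (z : B' ⊗[B] A) :
    ∑ l, b l ⊗ₜ[B] coef (σ l) z = z := by
  induction z using TensorProduct.induction_on with
  | zero => simp
  | tmul x a =>
    simp only [coef_tmul]
    calc ∑ l, b l ⊗ₜ[B] (σ l x • a) = ∑ l, (σ l x • b l) ⊗ₜ[B] a :=
          Finset.sum_congr rfl fun l _ => (TensorProduct.smul_tmul (σ l x) (b l) a).symm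
      _ = x ⊗ₜ[B] a := by rw [← TensorProduct.sum_tmul, hbσ]
  | add p q hp hq => simp [map_add, TensorProduct.tmul_add, Finset.sum_add_distrib, hp, hq]

end coef

/-- A finite projective module has a finite dual basis. -/
theorem exists_dual_basis [Module.Finite B B'] [Module.Projective B B'] :
    ∃ (n : ℕ) (b : Fin n → B') (σ : Fin n → B' →ₗ[B] B), ∀ x, ∑ l, σ l x • b l = x := by
  classical
  obtain ⟨n, π, hπ⟩ := Module.Finite.exists_fin' B B'
  obtain ⟨s, hs⟩ := Module.projective_lifting_property π LinearMap.id hπ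
  refine ⟨n, fun l => π (Pi.single l 1), fun l => LinearMap.proj l ∘ₗ s, fun x => ?_⟩
  have h : s x = ∑ l, s x l • (Pi.single l 1 : Fin n → B) := by
    funext j
    simp [Finset.sum_apply, Pi.single_apply]
  conv_rhs => rw [← LinearMap.id_apply (R := B) x, ← hs, LinearMap.comp_apply, h]
  simp

/-- The algebra representing the Weil restriction of a finitely presented `B'`-algebra. -/
theorem exists_weilAlg [Module.Finite B B'] [Module.Projective B B'] (C : Type u) [CommRing C]
    [Algebra B' C] [Algebra.FinitePresentation B' C] :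
    ∃ (W : Type u) (_ : CommRing W) (_ : Algebra B W) (u : C →ₐ[B'] B' ⊗[B] W),
      Algebra.FinitePresentation B W ∧
      ∀ (A : Type u) [CommRing A] [Algebra B A] (ψ : C →ₐ[B'] B' ⊗[B] A),
        ∃! φ : W →ₐ[B] A, (mapId φ).comp u = ψ := by
  classical
  obtain ⟨n, b, σ, hbσ⟩ := exists_dual_basis (B := B) (B' := B')
  obtain ⟨m, f, hf, ⟨s, hs⟩⟩ := Algebra.FinitePresentation.out (R := B') (A := C)
  replace hs : Ideal.span (s : Set (MvPolynomial (Fin m) B')) = RingHom.ker f := hs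
  let P := MvPolynomial (Fin m × Fin n) B
  let ξ : Fin m → B' ⊗[B] P := fun i => ∑ l, b l ⊗ₜ[B] MvPolynomial.X (i, l)
  let ev : MvPolynomial (Fin m) B' →ₐ[B'] B' ⊗[B] P := MvPolynomial.aeval ξ
  let rel : Finset P :=
    (Finset.univ : Finset (Fin m × Fin n)).image
      (fun il => MvPolynomial.X il - coef (σ il.2) (ξ il.1)) ∪
    (s ×ˢ (Finset.univ : Finset (Fin n))).image (fun gl => coef (σ gl.2) (ev gl.1))
  let I : Ideal P := Ideal.span (rel : Set P)
  let W := P ⧸ I
  let mk : P →ₐ[B] W := Ideal.Quotient.mkₐ B I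
  have hrel : ∀ r ∈ rel, mk r = 0 := fun r hr =>
    Ideal.Quotient.eq_zero_iff_mem.mpr (Ideal.subset_span hr)
  have hker : ∀ g ∈ RingHom.ker f, ((mapId mk).comp ev) g = 0 := by
    show RingHom.ker f ≤ RingHom.ker ((mapId mk).comp ev)
    rw [← hs]
    refine Ideal.span_le.mpr fun g hg => ?_
    show mapId mk (ev g) = 0
    rw [← sum_coef b σ hbσ (mapId mk (ev g))]
    refine Finset.sum_eq_zero fun l _ => ?_
    rw [coef_mapId, hrel _ (Finset.mem_union_right _
      (Finset.mem_image.mpr ⟨(g, l), Finset.mem_product.mpr ⟨hg, Finset.mem_univ l⟩, rfl⟩)), TensorProduct.tmul_zero]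
  let u : C →ₐ[B'] B' ⊗[B] W :=
    (Ideal.Quotient.liftₐ _ ((mapId mk).comp ev) hker).comp
      (Ideal.quotientKerAlgEquivOfSurjective hf).symm.toAlgHom
  have hu : ∀ g, u (f g) = mapId mk (ev g) := by
    intro g
    have : (Ideal.quotientKerAlgEquivOfSurjective hf).symm (f g) = Ideal.Quotient.mk _ g := by
      rw [AlgEquiv.symm_apply_eq]; rfl
    show Ideal.Quotient.liftₐ _ ((mapId mk).comp ev) hker
      ((Ideal.quotientKerAlgEquivOfSurjective hf).symm (f g)) = _
    rw [this]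
    rfl
  refine ⟨W, inferInstance, inferInstance, u, ?_, ?_⟩
  · exact Algebra.FinitePresentation.quotient ⟨rel, rfl⟩
  intro A _ _ ψ
  have hcomp : ∀ φ₀ : P →ₐ[B] A, (∀ i, mapId φ₀ (ξ i) = ψ (f (MvPolynomial.X i))) →
      (mapId φ₀).comp ev = ψ.comp f := by
    intro φ₀ h
    apply MvPolynomial.algHom_ext
    intro i
    rw [AlgHom.comp_apply, MvPolynomial.aeval_X, h, AlgHom.comp_apply]
  let φ₀ : P →ₐ[B] A := MvPolynomial.aeval fun il => coef (σ il.2) (ψ (f (MvPolynomial.X il.1)))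
  have hφX : ∀ il, φ₀ (MvPolynomial.X il) = coef (σ il.2) (ψ (f (MvPolynomial.X il.1))) :=
    fun il => MvPolynomial.aeval_X _ il
  have hξ : ∀ i, mapId φ₀ (ξ i) = ψ (f (MvPolynomial.X i)) := by
    intro i
    simp only [ξ, map_sum, Algebra.TensorProduct.map_tmul, AlgHom.id_apply, hφX]
    exact sum_coef b σ hbσ _
  have hev := hcomp φ₀ hξ
  have hI : ∀ r ∈ I, φ₀ r = 0 := by
    show I ≤ RingHom.ker φ₀
    refine Ideal.span_le.mpr fun r hr => ?_
    show φ₀ r = 0
    rcases Finset.mem_union.mp hr with hr | hr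
    · obtain ⟨il, -, rfl⟩ := Finset.mem_image.mp hr
      rw [map_sub, ← coef_mapId, hξ, hφX, sub_self]
    · obtain ⟨⟨g, l⟩, hgl, rfl⟩ := Finset.mem_image.mp hr
      have hg : g ∈ RingHom.ker f := by
        rw [← hs]; exact Ideal.subset_span (Finset.mem_product.mp hgl).1
      rw [← coef_mapId]
      show coef (σ l) (((mapId φ₀).comp ev) g) = 0
      rw [hev, AlgHom.comp_apply, RingHom.mem_ker.mp hg, map_zero, map_zero]
  refine ⟨Ideal.Quotient.liftₐ I φ₀ hI, ?_, ?_⟩
  · ext c
    obtain ⟨g, rfl⟩ := hf c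
    rw [AlgHom.comp_apply, hu, ← AlgHom.comp_apply (mapId _) (mapId mk), ← mapId_comp,
      Ideal.Quotient.liftₐ_comp]
    exact DFunLike.congr_fun hev g
  · intro φ hφ
    apply Ideal.Quotient.algHom_ext
    apply MvPolynomial.algHom_ext
    intro il
    have h1 : mk (MvPolynomial.X il) = mk (coef (σ il.2) (ξ il.1)) := by
      rw [← sub_eq_zero, ← map_sub]
      exact hrel _ (Finset.mem_union_left _ (Finset.mem_image.mpr ⟨il, Finset.mem_univ _, rfl⟩))
    have h2 : mapId φ (mapId mk (ξ il.1)) = ψ (f (MvPolynomial.X il.1)) := by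
      rw [← hφ, AlgHom.comp_apply, hu]
      simp only [ev, MvPolynomial.aeval_X]
    rw [AlgHom.comp_apply, h1, ← coef_mapId, ← coef_mapId, h2]
    exact (hφX il).symm

/-- A faithfully flat formally smooth algebra of finite type has a point in every finite algebra
over an algebraically closed field. -/
theorem exists_point_artinian {R₀ C D K : Type u} [CommRing R₀] [CommRing C] [Algebra R₀ C]
    [Algebra.FormallySmooth R₀ C] [Algebra.FiniteType R₀ C] [Module.FaithfullyFlat R₀ C]
    [CommRing D] [Algebra R₀ D] [Field K] [IsAlgClosed K] [Algebra K D] [Module.Finite K D] :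
    Nonempty (C →ₐ[R₀] D) := by
  haveI : IsArtinianRing D := IsArtinianRing.of_finite K D
  obtain ⟨N, hN⟩ := IsArtinianRing.isNilpotent_nilradical (R := D)
  have hpt : ∀ I : MaximalSpectrum D, Nonempty (C →ₐ[R₀] D ⧸ I.asIdeal) := by
    intro I
    letI : Field (D ⧸ I.asIdeal) := Ideal.Quotient.field I.asIdeal
    haveI : IsAlgClosed (D ⧸ I.asIdeal) :=
      IsAlgClosed.of_ringEquiv K (D ⧸ I.asIdeal) (RingEquiv.ofBijective (algebraMap K (D ⧸ I.asIdeal))
        (IsAlgClosed.algebraMap_bijective_of_isIntegral (k := K)))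
    haveI : Nontrivial ((D ⧸ I.asIdeal) ⊗[R₀] C) :=
      Module.FaithfullyFlat.rTensor_nontrivial R₀ C (D ⧸ I.asIdeal)
    obtain ⟨p⟩ := PointLift.exists_point_algClosed (D ⧸ I.asIdeal) ((D ⧸ I.asIdeal) ⊗[R₀] C)
      (D ⧸ I.asIdeal)
    exact ⟨(p.restrictScalars R₀).comp Algebra.TensorProduct.includeRight⟩
  let p := fun I => (hpt I).some
  let toPi : D →ₐ[R₀] (Π I : MaximalSpectrum D, D ⧸ I.asIdeal) :=
    Pi.algHom R₀ (fun I : MaximalSpectrum D => D ⧸ I.asIdeal)
      (fun I : MaximalSpectrum D => Ideal.Quotient.mkₐ R₀ I.asIdeal)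
  have hker : ∀ x ∈ RingHom.ker toPi, x ∈ nilradical D := by
    intro x hx
    rw [nilradical_eq_sInf, Ideal.mem_sInf]
    intro P hP
    haveI : P.IsPrime := hP
    exact Ideal.Quotient.eq_zero_iff_mem.mp
      (congrFun (RingHom.mem_ker.mp hx) ⟨P, Ideal.IsPrime.isMaximal' hP⟩)
  have hsurj : Function.Surjective toPi := by
    intro y
    obtain ⟨z, hz⟩ := Ideal.pi_quotient_surjective
      (fun I J hIJ => Ideal.isCoprime_iff_sup_eq.mpr
        (I.isMaximal.coprime_of_ne J.isMaximal (fun h => hIJ (MaximalSpectrum.ext h)))) y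
    exact ⟨z, funext hz⟩
  have hnil : IsNilpotent (RingHom.ker toPi) :=
    ⟨N, le_bot_iff.mp (le_trans (Ideal.pow_right_mono hker N) (le_of_eq hN))⟩
  exact ⟨Algebra.FormallySmooth.liftOfSurjective (Pi.algHom R₀ _ p) toPi hsurj hnil⟩

/-- A formally smooth algebra lifts along a map with nilpotent kernel, into whose range it maps. -/
theorem exists_lift_of_mem_range {R₀ C X Y : Type u} [CommRing R₀] [CommRing C] [CommRing X]
    [CommRing Y] [Algebra R₀ C] [Algebra R₀ X] [Algebra R₀ Y] [Algebra.FormallySmooth R₀ C]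
    (Λ : X →ₐ[R₀] Y) (hΛ : IsNilpotent (RingHom.ker Λ)) (θ : C →ₐ[R₀] Y)
    (hθ : ∀ c, θ c ∈ Λ.range) : ∃ c : C →ₐ[R₀] X, ∀ r, Λ (c r) = θ r := by
  have hker : RingHom.ker (Λ.rangeRestrict : X →+* Λ.range) = RingHom.ker Λ := by
    ext z
    exact ⟨fun h => congrArg Subtype.val h, fun h => Subtype.ext h⟩
  have hnil : IsNilpotent (RingHom.ker (Λ.rangeRestrict : X →+* Λ.range)) := by rwa [hker]
  exact ⟨Algebra.FormallySmooth.liftOfSurjective (θ.codRestrict Λ.range hθ) Λ.rangeRestrict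
    Λ.rangeRestrict_surjective hnil, fun r => congrArg Subtype.val
    (Algebra.FormallySmooth.liftOfSurjective_apply (θ.codRestrict Λ.range hθ) Λ.rangeRestrict
      Λ.rangeRestrict_surjective hnil r)⟩

section counit

variable {C W : Type u} [CommRing C] [Algebra B' C] [CommRing W] [Algebra B W]
  (u : C →ₐ[B'] B' ⊗[B] W)

lemma mapId_ker {A A' : Type u} [CommRing A] [CommRing A'] [Algebra B A] [Algebra B A']
    (g : A →ₐ[B] A') (hg : Function.Surjective g) :
    RingHom.ker (mapId (B' := B') g) =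
      (RingHom.ker g).map (Algebra.TensorProduct.includeRight (R := B) (A := B') (B := A)) :=
  Algebra.TensorProduct.lTensor_ker g hg

lemma mapId_surjective {A A' : Type u} [CommRing A] [CommRing A'] [Algebra B A] [Algebra B A']
    (g : A →ₐ[B] A') (hg : Function.Surjective g) : Function.Surjective (mapId (B' := B') g) := by
  intro z
  induction z using TensorProduct.induction_on with
  | zero => exact ⟨0, map_zero _⟩
  | tmul x a => obtain ⟨a', rfl⟩ := hg a; exact ⟨x ⊗ₜ a', by simp⟩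
  | add p q hp hq =>
    obtain ⟨p', rfl⟩ := hp
    obtain ⟨q', rfl⟩ := hq
    exact ⟨p' + q', map_add _ _ _⟩

lemma sq_mapId_ker {A A' : Type u} [CommRing A] [CommRing A'] [Algebra B A] [Algebra B A']
    (g : A →ₐ[B] A') (hg : Function.Surjective g) (h2 : RingHom.ker g ^ 2 = ⊥) :
    RingHom.ker (mapId (B' := B') g) ^ 2 = ⊥ := by
  rw [mapId_ker g hg, ← Ideal.map_pow, h2, Ideal.map_bot]

set_option maxHeartbeats 1000000 in
/-- The counit `C → B' ⊗ W` of a Weil restriction is formally smooth. -/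
theorem counit_formallySmooth [Algebra.FormallySmooth B' C]
    (hu : ∀ (A : Type u) [CommRing A] [Algebra B A] (ψ : C →ₐ[B'] B' ⊗[B] A),
      ∃! φ : W →ₐ[B] A, (mapId φ).comp u = ψ) :
    u.toRingHom.FormallySmooth := by
  letI : Algebra C (B' ⊗[B] W) := u.toRingHom.toAlgebra
  show Algebra.FormallySmooth C (B' ⊗[B] W)
  rw [Algebra.FormallySmooth.iff_comp_surjective]
  intro A _ _ I hI ψ
  letI : Algebra B' A := ((algebraMap C A).comp (algebraMap B' C)).toAlgebra
  haveI : IsScalarTower B' C A := IsScalarTower.of_algebraMap_eq fun _ => rfl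
  letI : Algebra B A := ((algebraMap B' A).comp (algebraMap B B')).toAlgebra
  haveI : IsScalarTower B B' A := IsScalarTower.of_algebraMap_eq fun _ => rfl
  let π : A →ₐ[B] A ⧸ I := Ideal.Quotient.mkₐ B I
  have hπ : Function.Surjective π := Ideal.Quotient.mk_surjective
  have hπk : RingHom.ker π = I := Ideal.mk_ker
  haveI : IsScalarTower B' C (B' ⊗[B] W) :=
    IsScalarTower.of_algebraMap_eq fun r => (u.commutes r).symm
  let ψ' : B' ⊗[B] W →ₐ[B'] A ⧸ I := ψ.restrictScalars B'
  let φbar : W →ₐ[B] A ⧸ I := (ψ'.restrictScalars B).comp Algebra.TensorProduct.includeRight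
  -- multiplication maps
  let μ : B' ⊗[B] A →ₐ[B'] A :=
    Algebra.TensorProduct.lift (Algebra.ofId B' A) (AlgHom.id B A) (fun _ _ => Commute.all _ _)
  let μ' : B' ⊗[B] (A ⧸ I) →ₐ[B'] A ⧸ I :=
    Algebra.TensorProduct.lift (Algebra.ofId B' _) (AlgHom.id B _) (fun _ _ => Commute.all _ _)
  have hμπ : ∀ z, π (μ z) = μ' (mapId π z) := by
    intro z
    induction z using TensorProduct.induction_on with
    | zero => simp
    | tmul x a =>
      simp only [μ, μ', Algebra.TensorProduct.lift_tmul, Algebra.TensorProduct.map_tmul,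
        AlgHom.id_apply, Algebra.ofId_apply, map_mul]
      rfl
    | add p q hp hq => simp [map_add, hp, hq]
  have hμψ : ∀ z, μ' (mapId φbar z) = ψ' z := by
    intro z
    induction z using TensorProduct.induction_on with
    | zero => simp
    | tmul x w =>
      simp only [μ', Algebra.TensorProduct.lift_tmul, Algebra.TensorProduct.map_tmul,
        AlgHom.id_apply, Algebra.ofId_apply, φbar]
      rw [← ψ'.commutes]
      show ψ' (algebraMap B' _ x) * ψ' (1 ⊗ₜ w) = _
      rw [← map_mul]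
      congr 1
      simp
    | add p q hp hq => simp [map_add, hp, hq]
  let Λ : B' ⊗[B] A →ₐ[B'] A × (B' ⊗[B] (A ⧸ I)) := μ.prod (mapId π)
  let θ : C →ₐ[B'] A × (B' ⊗[B] (A ⧸ I)) :=
    (IsScalarTower.toAlgHom B' C A).prod ((mapId φbar).comp u)
  have hθ : ∀ c, θ c ∈ Λ.range := by
    intro c
    obtain ⟨z, hz⟩ := mapId_surjective (B' := B') π hπ (mapId φbar (u c))
    have hd : algebraMap C A c - μ z ∈ I := by
      rw [← hπk, RingHom.mem_ker, map_sub, hμπ, hz, hμψ]
      have : ψ' (u c) = π (algebraMap C A c) := ψ.commutes c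
      rw [this, sub_self]
    refine ⟨z + 1 ⊗ₜ (algebraMap C A c - μ z), Prod.ext ?_ ?_⟩
    · show μ (z + 1 ⊗ₜ (algebraMap C A c - μ z)) = algebraMap C A c
      simp [μ, map_add]
    · show mapId π (z + 1 ⊗ₜ (algebraMap C A c - μ z)) = mapId φbar (u c)
      rw [map_add, hz, Algebra.TensorProduct.map_tmul]
      rw [← hπk, RingHom.mem_ker] at hd
      simp [hd]
  have hnil : IsNilpotent (RingHom.ker Λ) := by
    refine ⟨2, le_bot_iff.mp ?_⟩
    rw [← sq_mapId_ker (B' := B') π hπ (by rw [hπk]; exact hI)]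
    refine Ideal.pow_right_mono (fun z hz => ?_) 2
    exact congrArg Prod.snd (RingHom.mem_ker.mp hz)
  obtain ⟨cc, hcc⟩ := exists_lift_of_mem_range Λ hnil θ hθ
  obtain ⟨φ, hφ, -⟩ := hu A cc
  let l : B' ⊗[B] W →ₐ[B'] A :=
    Algebra.TensorProduct.lift (Algebra.ofId B' A) φ (fun _ _ => Commute.all _ _)
  have hl : ∀ z, l z = μ (mapId φ z) := by
    intro z
    induction z using TensorProduct.induction_on with
    | zero => simp
    | tmul x w => simp [l, μ]
    | add p q hp hq => simp [map_add, hp, hq]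
  refine ⟨{ l.toRingHom with commutes' := fun c => ?_ }, ?_⟩
  · show l (u c) = algebraMap C A c
    rw [hl, ← AlgHom.comp_apply (mapId φ) u, hφ]
    exact congrArg Prod.fst (hcc c)
  · have hφπ : π.comp φ = φbar := by
      obtain ⟨φ₁, -, hφ₁⟩ := hu (A ⧸ I) ((mapId φbar).comp u)
      rw [hφ₁ (π.comp φ), hφ₁ φbar rfl]
      dsimp only
      rw [mapId_comp, AlgHom.comp_assoc, hφ]
      exact AlgHom.ext fun c => congrArg Prod.snd (hcc c)
    ext z
    show π (l z) = ψ' z
    rw [hl, hμπ, ← AlgHom.comp_apply (mapId π) (mapId φ), ← mapId_comp, hφπ, hμψ]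

end counit

section map

variable {CY CX WY WX : Type u} [CommRing CY] [CommRing CX] [Algebra B' CY] [Algebra B' CX]
  [CommRing WY] [CommRing WX] [Algebra B WY] [Algebra B WX]

/-- The Weil restriction of a formally smooth map is formally smooth. -/
theorem map_formallySmooth (uX : CX →ₐ[B'] B' ⊗[B] WX)
    (huX : ∀ (A : Type u) [CommRing A] [Algebra B A] (ψ : CX →ₐ[B'] B' ⊗[B] A),
      ∃! φ : WX →ₐ[B] A, (mapId φ).comp uX = ψ)
    (uY : CY →ₐ[B'] B' ⊗[B] WY)
    (huY : ∀ (A : Type u) [CommRing A] [Algebra B A] (ψ : CY →ₐ[B'] B' ⊗[B] A),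
      ∃! φ : WY →ₐ[B] A, (mapId φ).comp uY = ψ)
    (g : CY →ₐ[B'] CX) (hg : g.toRingHom.FormallySmooth)
    (v : WY →ₐ[B] WX) (hv : (mapId v).comp uY = uX.comp g) : v.toRingHom.FormallySmooth := by
  letI : Algebra WY WX := v.toRingHom.toAlgebra
  show Algebra.FormallySmooth WY WX
  rw [Algebra.FormallySmooth.iff_comp_surjective]
  intro A _ _ I hI ψ
  letI : Algebra B A := ((algebraMap WY A).comp (algebraMap B WY)).toAlgebra
  haveI : IsScalarTower B WY A := IsScalarTower.of_algebraMap_eq fun _ => rfl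
  haveI : IsScalarTower B WY WX := IsScalarTower.of_algebraMap_eq fun r => (v.commutes r).symm
  let a : WY →ₐ[B] A := IsScalarTower.toAlgHom B WY A
  let π : A →ₐ[B] A ⧸ I := Ideal.Quotient.mkₐ B I
  have hπ : Function.Surjective π := Ideal.Quotient.mk_surjective
  have hπk : RingHom.ker π = I := Ideal.mk_ker
  let φbar : WX →ₐ[B] A ⧸ I := ψ.restrictScalars B
  have hψv : φbar.comp v = π.comp a := AlgHom.ext fun w => ψ.commutes w
  let cY : CY →ₐ[B'] B' ⊗[B] A := (mapId a).comp uY
  let cX : CX →ₐ[B'] B' ⊗[B] (A ⧸ I) := (mapId φbar).comp uX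
  have hc : cX.comp g = (mapId π).comp cY := by
    rw [AlgHom.comp_assoc, ← hv, ← AlgHom.comp_assoc, ← mapId_comp, hψv, mapId_comp,
      AlgHom.comp_assoc]
  letI : Algebra CY CX := g.toRingHom.toAlgebra
  haveI : Algebra.FormallySmooth CY CX := hg
  letI : Algebra CY (B' ⊗[B] A) := cY.toRingHom.toAlgebra
  letI : Algebra CY (B' ⊗[B] (A ⧸ I)) := ((mapId π).comp cY).toRingHom.toAlgebra
  let π' : B' ⊗[B] A →ₐ[CY] B' ⊗[B] (A ⧸ I) :=
    { (mapId π).toRingHom with commutes' := fun _ => rfl }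
  let cX' : CX →ₐ[CY] B' ⊗[B] (A ⧸ I) :=
    { cX.toRingHom with commutes' := fun r => DFunLike.congr_fun hc r }
  have hnil : IsNilpotent (RingHom.ker π') :=
    ⟨2, by
      rw [Ideal.zero_eq_bot]
      exact sq_mapId_ker (B' := B') π hπ (by rw [hπk]; exact hI)⟩
  let d := Algebra.FormallySmooth.liftOfSurjective cX' π' (mapId_surjective π hπ) hnil
  have hd := Algebra.FormallySmooth.comp_liftOfSurjective cX' π' (mapId_surjective π hπ) hnil
  have hd' : ∀ r, d (algebraMap B' CX r) = algebraMap B' (B' ⊗[B] A) r := by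
    intro r
    rw [show algebraMap B' CX r = algebraMap CY CX (algebraMap B' CY r) from
      (g.commutes r).symm, d.commutes]
    exact cY.commutes r
  let d' : CX →ₐ[B'] B' ⊗[B] A := { d.toRingHom with commutes' := hd' }
  obtain ⟨φ, hφ, -⟩ := huX A d'
  have hφv : φ.comp v = a := by
    obtain ⟨φ₁, -, hu₁⟩ := huY A cY
    rw [hu₁ (φ.comp v), hu₁ a rfl]
    dsimp only
    rw [mapId_comp, AlgHom.comp_assoc, hv, ← AlgHom.comp_assoc, hφ]
    exact AlgHom.ext fun r => d.commutes r
  have hφπ : π.comp φ = φbar := by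
    obtain ⟨φ₁, -, hu₁⟩ := huX (A ⧸ I) cX
    rw [hu₁ (π.comp φ), hu₁ φbar rfl]
    dsimp only
    rw [mapId_comp, AlgHom.comp_assoc, hφ]
    exact AlgHom.ext fun x => DFunLike.congr_fun hd x
  exact ⟨{ φ.toRingHom with commutes' := fun w => DFunLike.congr_fun hφv w },
    AlgHom.ext fun x => DFunLike.congr_fun hφπ x⟩

end map

/-- Every prime is the kernel of a point with values in an algebraically closed field. -/
theorem exists_geomPoint {C : Type u} [CommRing C] (P : PrimeSpectrum C) :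
    ∃ (K : Type u) (_ : Field K) (_ : IsAlgClosed K) (q : C →+* K),
      ∀ r, q r = 0 ↔ r ∈ P.asIdeal := by
  refine ⟨AlgebraicClosure (FractionRing (C ⧸ P.asIdeal)), inferInstance, inferInstance,
    ((algebraMap (FractionRing (C ⧸ P.asIdeal)) _).comp
      (algebraMap (C ⧸ P.asIdeal) (FractionRing (C ⧸ P.asIdeal)))).comp
      (Ideal.Quotient.mk P.asIdeal), fun r => ?_⟩
  rw [RingHom.comp_apply, RingHom.comp_apply, map_eq_zero, IsFractionRing.to_map_eq_zero_iff,
    Ideal.Quotient.eq_zero_iff_mem]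

section points

variable [Module.Finite B B']

/-- Every geometric point of `C` lifts along the counit of its Weil restriction. -/
theorem counit_comap_surjective {C W : Type u} [CommRing C] [Algebra B' C]
    [Algebra.FormallySmooth B' C] [Algebra.FiniteType B' C] [Module.FaithfullyFlat B' C]
    [IsNoetherianRing B'] [CommRing W] [Algebra B W] (u : C →ₐ[B'] B' ⊗[B] W)
    (hu : ∀ (A : Type u) [CommRing A] [Algebra B A] (ψ : C →ₐ[B'] B' ⊗[B] A),
      ∃! φ : W →ₐ[B] A, (mapId φ).comp u = ψ) :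
    Function.Surjective (PrimeSpectrum.comap u.toRingHom) := by
  intro P
  obtain ⟨K, _, _, q, hq⟩ := exists_geomPoint P
  letI : Algebra B' K := (q.comp (algebraMap B' C)).toAlgebra
  letI : Algebra B K := ((algebraMap B' K).comp (algebraMap B B')).toAlgebra
  haveI : IsScalarTower B B' K := IsScalarTower.of_algebraMap_eq fun _ => rfl
  let x : C →ₐ[B'] K := { q with commutes' := fun _ => rfl }
  let μ : B' ⊗[B] K →ₐ[B'] K :=
    Algebra.TensorProduct.lift (Algebra.ofId B' K) (AlgHom.id B K) (fun _ _ => Commute.all _ _)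
  have hμ : Function.Surjective μ := fun a => ⟨1 ⊗ₜ a, by simp [μ]⟩
  letI algK : Algebra K (B' ⊗[B] K) := Algebra.TensorProduct.rightAlgebra
  haveI : Module.Finite K (B' ⊗[B] K) := by
    let e : K ⊗[B] B' ≃ₐ[K] B' ⊗[B] K := AlgEquiv.ofRingEquiv
      (f := (Algebra.TensorProduct.comm B K B').toRingEquiv) (fun x => rfl)
    exact Module.Finite.equiv e.toLinearEquiv
  haveI : IsArtinianRing (B' ⊗[B] K) := IsArtinianRing.of_finite K _
  obtain ⟨c₀⟩ := exists_point_artinian (R₀ := B') (C := C) (D := B' ⊗[B] K) (K := K)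
  obtain ⟨n, hn⟩ := IsArtinian.monotone_stabilizes
    ⟨fun i => OrderDual.toDual (RingHom.ker μ ^ i), fun i j hij => Ideal.pow_le_pow_right hij⟩
  let e := Ideal.quotientKerAlgEquivOfSurjective hμ
  obtain ⟨c, hc⟩ := PointLift.exists_lift_of_pow_succ_eq (RingHom.ker μ)
    (IsNoetherian.noetherian _) n (hn (n + 1) (by omega)).symm c₀ (e.symm.toAlgHom.comp x)
  have hμc : ∀ r, μ (c r) = x r := fun r =>
    (congrArg e (DFunLike.congr_fun hc r)).trans (e.apply_symm_apply (x r))
  obtain ⟨φ, hφ, -⟩ := hu K c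
  let pt : B' ⊗[B] W →+* K := (μ.comp (mapId φ)).toRingHom
  refine ⟨PrimeSpectrum.comap pt ⟨⊥, Ideal.isPrime_bot⟩, PrimeSpectrum.ext ?_⟩
  ext r
  show pt (u r) ∈ (⊥ : Ideal K) ↔ r ∈ P.asIdeal
  rw [Ideal.mem_bot]
  have hr : pt (u r) = x r := by
    show μ (mapId φ (u r)) = x r
    rw [← AlgHom.comp_apply (mapId φ) u, hφ, hμc]
  rw [hr]
  exact hq r

/-- Every geometric point lifts along the Weil restriction of a smooth surjective map. -/
theorem map_comap_surjective {CY CX WY WX : Type u} [CommRing CY] [CommRing CX] [Algebra B' CY]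
    [Algebra B' CX] [CommRing WY] [CommRing WX] [Algebra B WY] [Algebra B WX]
    (uX : CX →ₐ[B'] B' ⊗[B] WX)
    (huX : ∀ (A : Type u) [CommRing A] [Algebra B A] (ψ : CX →ₐ[B'] B' ⊗[B] A),
      ∃! φ : WX →ₐ[B] A, (mapId φ).comp uX = ψ)
    (uY : CY →ₐ[B'] B' ⊗[B] WY)
    (huY : ∀ (A : Type u) [CommRing A] [Algebra B A] (ψ : CY →ₐ[B'] B' ⊗[B] A),
      ∃! φ : WY →ₐ[B] A, (mapId φ).comp uY = ψ)
    (g : CY →ₐ[B'] CX) (hg : g.toRingHom.FormallySmooth) (hgft : g.toRingHom.FiniteType)
    (hgff : g.toRingHom.FaithfullyFlat)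
    (v : WY →ₐ[B] WX) (hv : (mapId v).comp uY = uX.comp g) :
    Function.Surjective (PrimeSpectrum.comap v.toRingHom) := by
  intro P
  obtain ⟨K, _, _, q, hq⟩ := exists_geomPoint P
  letI : Algebra B K := (q.comp (algebraMap B WY)).toAlgebra
  let y : WY →ₐ[B] K := { q with commutes' := fun _ => rfl }
  let cY : CY →ₐ[B'] B' ⊗[B] K := (mapId y).comp uY
  letI algK : Algebra K (B' ⊗[B] K) := Algebra.TensorProduct.rightAlgebra
  haveI : Module.Finite K (B' ⊗[B] K) := by
    let e : K ⊗[B] B' ≃ₐ[K] B' ⊗[B] K := AlgEquiv.ofRingEquiv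
      (f := (Algebra.TensorProduct.comm B K B').toRingEquiv) (fun x => rfl)
    exact Module.Finite.equiv e.toLinearEquiv
  letI : Algebra CY CX := g.toRingHom.toAlgebra
  haveI : Algebra.FormallySmooth CY CX := hg
  haveI : Algebra.FiniteType CY CX := hgft
  haveI : Module.FaithfullyFlat CY CX := RingHom.faithfullyFlat_algebraMap_iff.mp hgff
  letI : Algebra CY (B' ⊗[B] K) := cY.toRingHom.toAlgebra
  obtain ⟨c⟩ := exists_point_artinian (R₀ := CY) (C := CX) (D := B' ⊗[B] K) (K := K)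
  have hc' : ∀ r, c (algebraMap B' CX r) = algebraMap B' (B' ⊗[B] K) r := by
    intro r
    rw [show algebraMap B' CX r = algebraMap CY CX (algebraMap B' CY r) from
      (g.commutes r).symm, c.commutes]
    exact cY.commutes r
  let c' : CX →ₐ[B'] B' ⊗[B] K := { c.toRingHom with commutes' := hc' }
  obtain ⟨φ, hφ, -⟩ := huX K c'
  have hφv : φ.comp v = y := by
    obtain ⟨φ₁, -, hu₁⟩ := huY K cY
    rw [hu₁ (φ.comp v), hu₁ y rfl]
    dsimp only
    rw [mapId_comp, AlgHom.comp_assoc, hv, ← AlgHom.comp_assoc, hφ]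
    exact AlgHom.ext fun r => c.commutes r
  refine ⟨PrimeSpectrum.comap φ.toRingHom ⟨⊥, Ideal.isPrime_bot⟩, PrimeSpectrum.ext ?_⟩
  ext r
  show φ (v r) ∈ (⊥ : Ideal K) ↔ r ∈ P.asIdeal
  rw [Ideal.mem_bot, ← AlgHom.comp_apply, hφv]
  exact hq r

end points

end Groth.Agent.Alg80.WeilAlg
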