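import Groth.Agent.FBase64.TensorField
import Mathlib.RingTheory.Localization.BaseChange
import Mathlib.RingTheory.TensorProduct.Basic
import Mathlib.RingTheory.LocalProperties.Reduced

/-!
Transitivity, base change and localisation of geometrically reduced algebras over fields.
-/

set_option autoImplicit false
universe u

open TensorProduct

namespace Groth.Agent.Alg80

/-- Geometrically reduced algebras over a geometrically reduced field extension are geometrically
reduced over the ground field. -/
theorem isGeometricallyReduced_trans (k k' A : Type u) [Field k] [Field k'] [CommRing A] [Algebra k k']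
    [Algebra k' A] [Algebra k A] [IsScalarTower k k' A] [Algebra.IsGeometricallyReduced k k']
    [Algebra.IsGeometricallyReduced k' A] : Algebra.IsGeometricallyReduced k A := by
  rw [Algebra.isGeometricallyReduced_field_iff]
  have h1 : IsReduced (k' ⊗[k] AlgebraicClosure k) :=
    isReduced_of_injective (Algebra.TensorProduct.comm k k' (AlgebraicClosure k))
      (AlgEquiv.injective _)
  have h2 : IsReduced ((k' ⊗[k] AlgebraicClosure k) ⊗[k'] A) :=
    FBase64.isReduced_tensor_of_geomReduced k' A (k' ⊗[k] AlgebraicClosure k)
  have h3 : IsReduced (A ⊗[k'] (k' ⊗[k] AlgebraicClosure k)) :=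
    isReduced_of_injective (Algebra.TensorProduct.comm k' A (k' ⊗[k] AlgebraicClosure k))
      (AlgEquiv.injective _)
  have h4 : IsReduced (A ⊗[k] AlgebraicClosure k) := isReduced_of_injective
    (Algebra.TensorProduct.cancelBaseChange k k' k' A (AlgebraicClosure k)).symm (AlgEquiv.injective _)
  exact isReduced_of_injective (Algebra.TensorProduct.comm k (AlgebraicClosure k) A)
    (AlgEquiv.injective _)

/-- Base change of a geometrically reduced algebra along a field extension. -/
theorem isGeometricallyReduced_baseChange (k k' A : Type u) [Field k] [Field k'] [CommRing A]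
    [Algebra k k'] [Algebra k A] [Algebra.IsGeometricallyReduced k A] :
    Algebra.IsGeometricallyReduced k' (k' ⊗[k] A) := by
  rw [Algebra.isGeometricallyReduced_field_iff]
  have : IsReduced (AlgebraicClosure k' ⊗[k] A) := FBase64.isReduced_tensor_of_geomReduced k A (AlgebraicClosure k')
  exact isReduced_of_injective
    (Algebra.TensorProduct.cancelBaseChange k k' k' (AlgebraicClosure k') A) (AlgEquiv.injective _)

/-- Localisations of geometrically reduced algebras are geometrically reduced. -/
theorem isGeometricallyReduced_of_isLocalization {k A : Type u} (L : Type u) [Field k] [CommRing A]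
    [Algebra k A] [CommRing L] [Algebra k L] [Algebra A L] [IsScalarTower k A L] (S : Submonoid A)
    [IsLocalization S L] [Algebra.IsGeometricallyReduced k A] :
    Algebra.IsGeometricallyReduced k L := by
  rw [Algebra.isGeometricallyReduced_field_iff]
  let C := AlgebraicClosure k
  have h0 : IsReduced (C ⊗[k] A) := (Algebra.isGeometricallyReduced_field_iff k A).mp ‹_›
  have : IsReduced (A ⊗[k] C) :=
    isReduced_of_injective (Algebra.TensorProduct.comm k A C) (AlgEquiv.injective _)
  letI : Algebra (A ⊗[k] C) (L ⊗[k] C) :=
    (Algebra.TensorProduct.map (IsScalarTower.toAlgHom k A L) (AlgHom.id k C)).toRingHom.toAlgebra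
  have : IsScalarTower A (A ⊗[k] C) (L ⊗[k] C) := IsScalarTower.of_algebraMap_eq fun b => by
    show algebraMap A L b ⊗ₜ 1 =
      Algebra.TensorProduct.map (IsScalarTower.toAlgHom k A L) (AlgHom.id k C) (b ⊗ₜ 1)
    rw [Algebra.TensorProduct.map_tmul, map_one]; rfl
  have := IsLocalization.tensorProduct_tensorProduct k C (A := A) S L
    (RingHom.ext fun w => by
      show Algebra.TensorProduct.map _ (AlgHom.id k C) ((1 : A) ⊗ₜ[k] w) = _
      rw [Algebra.TensorProduct.map_tmul, map_one]; rfl)
  have : IsReduced (L ⊗[k] C) :=
    isReduced_localizationPreserves (Algebra.algebraMapSubmonoid (A ⊗[k] C) S) (L ⊗[k] C) inferInstance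
  exact isReduced_of_injective (Algebra.TensorProduct.comm k C L) (AlgEquiv.injective _)

end Groth.Agent.Alg80
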