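import Mathlib.RingTheory.Spectrum.Prime.Chevalley
import Mathlib.RingTheory.PrincipalIdealDomain
import Mathlib.RingTheory.Flat.TorsionFree
import Mathlib.RingTheory.Ideal.GoingDown
import Mathlib.RingTheory.IntegralClosure.IsIntegralClosure.Basic
import Mathlib.FieldTheory.IsAlgClosed.AlgebraicClosure
import Mathlib.RingTheory.Polynomial.Basic
import Mathlib.RingTheory.Algebraic.Integral

/-!
A field mapping into a domain of finite type over a field `k` is algebraic over `k`.
-/

set_option autoImplicit false
universe u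
open Polynomial

namespace Groth.Agent.Alg80

/-- An algebraically closed field has infinitely many integers. -/
theorem infinite_integralClosure_int (L : Type u) [Field L] [IsAlgClosed L] :
    Infinite (integralClosure ℤ L) := by
  classical
  by_contra h
  rw [not_infinite_iff_finite] at h
  let := Fintype.ofFinite (integralClosure ℤ L)
  let P : (integralClosure ℤ L)[X] := (∏ a : integralClosure ℤ L, (X - C a)) + 1
  have hm : (∏ a : integralClosure ℤ L, (X - C a)).Monic :=
    monic_prod_of_monic _ _ fun a _ => monic_X_sub_C a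
  have hd : 0 < (∏ a : integralClosure ℤ L, (X - C a)).degree := by
    rw [degree_prod]
    simp only [degree_X_sub_C, Finset.sum_const, nsmul_eq_mul, mul_one]
    exact_mod_cast Fintype.card_pos
  have hP : P.Monic := hm.add_of_left (by rw [degree_one]; exact hd)
  have hdeg : P.degree ≠ 0 := by
    rw [degree_add_eq_left_of_degree_lt (by rw [degree_one]; exact hd)]
    exact hd.ne'
  obtain ⟨z, hz⟩ := IsAlgClosed.exists_aeval_eq_zero L P hdeg
  have hz' : IsIntegral ℤ z := isIntegral_trans (R := ℤ) (A := integralClosure ℤ L) z ⟨P, hP, hz⟩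
  simp only [P, map_add, map_one, map_prod] at hz
  rw [Finset.prod_eq_zero (Finset.mem_univ ⟨z, hz'⟩) (by simp)] at hz
  simp at hz

/-- A field mapping into a domain of finite type over a field is algebraic over it. -/
theorem isAlgebraic_of_field_map {k A k' : Type u} [Field k] [CommRing A] [IsDomain A] [Algebra k A]
    [Algebra.FiniteType k A] [Field k'] (φ : k' →+* A) (c : k') : IsAlgebraic k (φ c) := by
  classical
  by_contra hx
  have hinj : Function.Injective (aeval (R := k) (φ c)).toRingHom := transcendental_iff_injective.mp hx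
  algebraize [(aeval (R := k) (φ c)).toRingHom]
  have : IsScalarTower k k[X] A := IsScalarTower.of_algebraMap_eq fun r => by
    rw [RingHom.algebraMap_toAlgebra]; exact ((aeval (φ c)).commutes r).symm
  have : Algebra.FiniteType k[X] A := Algebra.FiniteType.of_restrictScalars_finiteType k k[X] A
  have : Algebra.FinitePresentation k[X] A := Algebra.FinitePresentation.of_finiteType.mp this
  have : Module.IsTorsionFree k[X] A := by
    rw [Module.isTorsionFree_iff_algebraMap_injective]
    exact hinj
  have : Module.Flat k[X] A := inferInstance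
  have hU : IsOpen (Set.range (PrimeSpectrum.comap (algebraMap k[X] A))) :=
    PrimeSpectrum.isOpenMap_comap_of_hasGoingDown_of_finitePresentation.isOpen_range
  obtain ⟨I, hI⟩ := (PrimeSpectrum.isClosed_iff_zeroLocus_ideal _).mp hU.isClosed_compl
  have hI0 : I ≠ ⊥ := by
    intro h
    rw [h] at hI
    have : (PrimeSpectrum.comap (algebraMap k[X] A) ⟨⊥, Ideal.isPrime_bot⟩) ∈
        (Set.range (PrimeSpectrum.comap (algebraMap k[X] A)))ᶜ := by
      rw [hI]
      exact fun x hx => by simp [(Submodule.mem_bot _).mp hx]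
    exact this ⟨_, rfl⟩
  obtain ⟨f, hfI, hf⟩ := Submodule.exists_mem_ne_zero_of_ne_bot hI0
  let L := AlgebraicClosure k
  have hfin : (f.rootSet L : Set L).Finite := f.rootSet_finite L
  have := infinite_integralClosure_int L
  obtain ⟨z, hzi, hzf⟩ : ∃ z : L, IsIntegral ℤ z ∧ aeval z f ≠ 0 := by
    have hinf : (integralClosure ℤ L : Set L).Infinite := Set.infinite_coe_iff.mp this
    obtain ⟨z, hz, hzf⟩ := (hinf.sdiff hfin).nonempty
    exact ⟨z, hz, fun h => hzf (Polynomial.mem_rootSet.mpr ⟨hf, h⟩)⟩
  let M : Ideal k[X] := RingHom.ker (aeval (R := k) z).toRingHom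
  have hM : M.IsPrime := RingHom.ker_isPrime _
  have hMr : (⟨M, hM⟩ : PrimeSpectrum k[X]) ∈ Set.range (PrimeSpectrum.comap (algebraMap k[X] A)) := by
    by_contra h
    have h' : (⟨M, hM⟩ : PrimeSpectrum k[X]) ∈ PrimeSpectrum.zeroLocus (I : Set k[X]) := hI ▸ h
    exact hzf (h' hfI)
  obtain ⟨q, hq⟩ := hMr
  obtain ⟨P, hP, hPz⟩ := hzi
  have hmem : P.map (Int.castRingHom k) ∈ M := by
    show aeval z (P.map (Int.castRingHom k)) = 0
    rw [show Int.castRingHom k = algebraMap ℤ k from Subsingleton.elim _ _, aeval_map_algebraMap]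
    exact hPz
  have hq' : aeval (φ c) (P.map (Int.castRingHom k)) ∈ q.asIdeal := by
    have h : P.map (Int.castRingHom k) ∈ (PrimeSpectrum.comap (algebraMap k[X] A) q).asIdeal := by
      rw [hq]; exact hmem
    exact h
  have hPc : aeval (φ c) (P.map (Int.castRingHom k)) = φ (aeval c P) := by
    rw [show Int.castRingHom k = algebraMap ℤ k from Subsingleton.elim _ _, aeval_map_algebraMap]
    exact aeval_algHom_apply φ.toIntAlgHom c P
  rw [hPc] at hq'
  by_cases h0 : aeval c P = 0
  · refine hx (IsIntegral.isAlgebraic ?_)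
    exact ((IsIntegral.map φ.toIntAlgHom (⟨P, hP, h0⟩ : IsIntegral ℤ c))).tower_top
  · exact q.isPrime.ne_top (Ideal.eq_top_of_isUnit_mem _ hq' ((Ne.isUnit h0).map φ))

end Groth.Agent.Alg80
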