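import Mathlib.FieldTheory.IsAlgClosed.Classification
import Mathlib.FieldTheory.IsAlgClosed.AlgebraicClosure
import Mathlib.RingTheory.AlgebraicIndependent.Basic
import Mathlib.RingTheory.AlgebraicIndependent.TranscendenceBasis
import Mathlib.RingTheory.Localization.FractionRing
import Mathlib.SetTheory.Cardinal.Basic

/-!
Big algebraically closed fields are homogeneous.
-/

set_option autoImplicit false
universe u
open Cardinal

namespace Groth.Agent.Alg80

/-- Two embeddings of a small field into a big algebraically closed field differ by an automorphism. -/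
theorem exists_ringEquiv_comp {k Ω : Type u} [Field k] [Field Ω] [IsAlgClosed Ω]
    (hcard : max #k ℵ₀ < #Ω) (a b : k →+* Ω) : ∃ ψ : Ω ≃+* Ω, (ψ : Ω →+* Ω).comp b = a := by
  have hbasis : ∀ f : k →+* Ω, ∃ (s : Set Ω), (@IsTranscendenceBasis s k Ω _ _ f.toAlgebra (↑)) ∧
      #s = #Ω := by
    intro f
    let : Algebra k Ω := f.toAlgebra
    obtain ⟨s, hs⟩ := exists_isTranscendenceBasis k Ω
    refine ⟨s, hs, le_antisymm (mk_set_le s) ?_⟩
    have h := IsAlgClosed.cardinal_le_max_transcendence_basis' (R := k) (K' := Ω) _ hs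
    rcases le_max_iff.mp h with h' | h'
    · rcases le_max_iff.mp h' with h'' | h''
      · exact absurd h'' (not_le.mpr ((le_max_left _ _).trans_lt hcard))
      · exact h''
    · exact absurd h' (not_le.mpr ((le_max_right _ _).trans_lt hcard))
  obtain ⟨s, hs, hsc⟩ := hbasis b
  obtain ⟨s', hs', hsc'⟩ := hbasis a
  obtain ⟨e⟩ : Nonempty (s ≃ s') := Cardinal.eq.mp (hsc.trans hsc'.symm)
  let Ab : @Subalgebra k Ω _ _ b.toAlgebra := @Algebra.adjoin k Ω _ _ b.toAlgebra (Set.range ((↑) : s → Ω))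
  let Aa : @Subalgebra k Ω _ _ a.toAlgebra := @Algebra.adjoin k Ω _ _ a.toAlgebra (Set.range ((↑) : s' → Ω))
  obtain ⟨E, hE⟩ : ∃ E : Ab ≃+* Aa, ∀ c : k,
      (E (@algebraMap k Ab _ _ (@Subalgebra.algebra k Ω _ _ b.toAlgebra Ab) c) : Ω) = a c := by
    let e₁ := (@AlgebraicIndependent.aevalEquiv s k Ω _ _ _ b.toAlgebra hs.1).symm
    let e₂ := MvPolynomial.renameEquiv k e
    let e₃ := @AlgebraicIndependent.aevalEquiv s' k Ω _ _ _ a.toAlgebra hs'.1
    refine ⟨(e₁.toRingEquiv.trans e₂.toRingEquiv).trans e₃.toRingEquiv, fun c => ?_⟩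
    show ((e₃ (e₂ (e₁ _))) : Ω) = a c
    rw [e₁.commutes c, e₂.commutes c, e₃.commutes c]
    rfl
  let := @IsAlgClosed.isAlgClosure_of_transcendence_basis k Ω _ _ b.toAlgebra _ _ _ hs
  let := @IsAlgClosed.isAlgClosure_of_transcendence_basis k Ω _ _ a.toAlgebra _ _ _ hs'
  let ψ := IsAlgClosure.equivOfEquiv (R := Aa) (S := Ab) Ω Ω E
  refine ⟨ψ, RingHom.ext fun c => ?_⟩
  have h := IsAlgClosure.equivOfEquiv_algebraMap (R := Aa) (S := Ab) Ω Ω E
    (@algebraMap k Ab _ _ (@Subalgebra.algebra k Ω _ _ b.toAlgebra Ab) c)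
  exact h.trans (hE c)

/-- There is a big algebraically closed field over any field. -/
theorem exists_big_algClosed (k L : Type u) [Field k] [Field L] :
    ∃ (Ω : Type u) (_ : Field Ω) (_ : IsAlgClosed Ω) (_ : L →+* Ω), max #k ℵ₀ < #Ω := by
  let ι := Set (k ⊕ ℕ)
  let F := FractionRing (MvPolynomial ι L)
  let Ω := AlgebraicClosure F
  refine ⟨Ω, inferInstance, inferInstance, algebraMap L Ω, ?_⟩
  have h1 : #ι ≤ #Ω := by
    refine Cardinal.mk_le_of_injective (f := fun i : ι =>
      algebraMap F Ω (algebraMap (MvPolynomial ι L) F (MvPolynomial.X i))) ?_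
    exact ((algebraMap F Ω).injective.comp (IsFractionRing.injective (MvPolynomial ι L) F)).comp
      MvPolynomial.X_injective
  refine lt_of_lt_of_le ?_ h1
  have h2 : max #k ℵ₀ ≤ #(k ⊕ ℕ) := by
    rw [mk_sum]
    simp
  exact h2.trans_lt (by rw [mk_set]; exact cantor _)

end Groth.Agent.Alg80
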