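import Groth.Agent.Alg80.WeilAlg

/-!
Weil restriction of an etale algebra along a finite projective extension is etale.
-/

set_option autoImplicit false
universe u
open TensorProduct

namespace Groth.Agent.Alg80.WeilAlg

theorem exists_weil_etale {B B' : Type u} [CommRing B] [CommRing B'] [Algebra B B']
    [Module.Finite B B'] [Module.Projective B B'] (C : Type u) [CommRing C] [Algebra B' C]
    [Algebra.Etale B' C] :
    ∃ (W : Type u) (_ : CommRing W) (_ : Algebra B W) (u : C →ₐ[B'] B' ⊗[B] W),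
      Algebra.Etale B W ∧
      ∀ (A : Type u) [CommRing A] [Algebra B A] (ψ : C →ₐ[B'] B' ⊗[B] A),
        ∃! φ : W →ₐ[B] A, (mapId φ).comp u = ψ := by
  obtain ⟨W, _, _, uX, hfp, huX⟩ := exists_weilAlg (B := B) (B' := B') C
  let uY : B' →ₐ[B'] B' ⊗[B] B := Algebra.ofId B' _
  have huY : ∀ (A : Type u) [CommRing A] [Algebra B A] (ψ : B' →ₐ[B'] B' ⊗[B] A),
      ∃! φ : B →ₐ[B] A, (mapId φ).comp uY = ψ := fun A _ _ ψ =>
    ⟨Algebra.ofId B A, Subsingleton.elim _ _, fun φ _ => Subsingleton.elim _ _⟩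
  let g : B' →ₐ[B'] C := Algebra.ofId B' C
  have hg : g.toRingHom.FormallySmooth :=
    RingHom.formallySmooth_algebraMap.mpr inferInstance
  let v : B →ₐ[B] W := Algebra.ofId B W
  have hv : (mapId v).comp uY = uX.comp g := Subsingleton.elim _ _
  have h1 : (algebraMap B W).FormallySmooth := map_formallySmooth uX huX uY huY g hg v hv
  have hs : Algebra.FormallySmooth B W := RingHom.formallySmooth_algebraMap.mp h1
  have hu : Algebra.FormallyUnramified B W := by
    rw [Algebra.FormallyUnramified.iff_comp_injective]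
    intro A _ _ I hI φ₁ φ₂ h
    let π : A →ₐ[B] A ⧸ I := Ideal.Quotient.mkₐ B I
    have hπ : Function.Surjective π := Ideal.Quotient.mk_surjective
    have hπk : RingHom.ker π = I := Ideal.mk_ker
    let I' := RingHom.ker (mapId (B' := B') π)
    have hI' : I' ^ 2 = ⊥ := sq_mapId_ker π hπ (by rw [hπk]; exact hI)
    have key : (mapId φ₁).comp uX = (mapId φ₂).comp uX := by
      refine Algebra.FormallyUnramified.comp_injective I' hI' ?_
      refine AlgHom.ext fun c => Ideal.Quotient.eq.mpr (RingHom.mem_ker.mpr ?_)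
      rw [map_sub, sub_eq_zero]
      show mapId π (mapId φ₁ (uX c)) = mapId π (mapId φ₂ (uX c))
      rw [← AlgHom.comp_apply (mapId π), ← AlgHom.comp_apply (mapId π) (mapId φ₂), ← mapId_comp,
        ← mapId_comp, show π.comp φ₁ = π.comp φ₂ from h]
    obtain ⟨φ, -, hφ⟩ := huX A ((mapId φ₂).comp uX)
    exact (hφ φ₁ key).trans (hφ φ₂ rfl).symm
  have : Algebra.FormallyEtale B W := .of_formallyUnramified_and_formallySmooth
  exact ⟨W, inferInstance, inferInstance, uX, { }, huX⟩

end Groth.Agent.Alg80.WeilAlg
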