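import Groth.Agent.Stage62.Flat
import Groth.Agent.SpFP87.EtDescRing
import Mathlib.RingTheory.Spectrum.Prime.Topology
import Mathlib.RingTheory.FinitePresentation
import Mathlib.RingTheory.TensorProduct.Maps

/-!
Finite presentation descends along faithfully flat finitely presented covers on the source.
-/

set_option autoImplicit false
set_option linter.style.haveILetI false
universe u
open TensorProduct

namespace Groth.Agent.Alg80

/-- Base change along a surjection is trivial for modules already over the target. -/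
noncomputable def tensorEquivOfSurjective (P A M : Type u) [CommRing P] [CommRing A] [Algebra P A]
    [AddCommGroup M] [Module A M] [Module P M] [IsScalarTower P A M]
    (h : Function.Surjective (algebraMap P A)) : A ⊗[P] M ≃ₗ[A] M :=
  LinearEquiv.ofBijective (LinearMap.liftBaseChange A (LinearMap.id : M →ₗ[P] M)) <| by
    have key : ∀ x : A ⊗[P] M,
        (1 : A) ⊗ₜ[P] LinearMap.liftBaseChange A (LinearMap.id : M →ₗ[P] M) x = x := by
      intro x
      induction x with
      | zero => simp
      | tmul a m =>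
        obtain ⟨p, rfl⟩ := h a
        simp [TensorProduct.tmul_smul, TensorProduct.smul_tmul', Algebra.smul_def]
      | add x y hx hy => rw [map_add, TensorProduct.tmul_add, hx, hy]
    refine ⟨fun x y hxy => ?_, fun m => ⟨1 ⊗ₜ m, by simp⟩⟩
    rw [← key x, hxy, key y]

/-- An ideal killed by a flat finitely presented algebra whose image is its zero locus is principal. -/
theorem ideal_eq_span_of_flat {G B : Type u} [CommRing G] [CommRing B] [Algebra G B] [Module.Flat G B]
    [Algebra.FinitePresentation G B] (K : Ideal G)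
    (hK : ∀ k ∈ K, algebraMap G B k = 0)
    (hV : PrimeSpectrum.zeroLocus (K : Set G) ⊆ Set.range (PrimeSpectrum.comap (algebraMap G B))) :
    ∃ e, K = Ideal.span {e} := by
  have hr : Set.range (PrimeSpectrum.comap (algebraMap G B)) = PrimeSpectrum.zeroLocus (K : Set G) := by
    refine subset_antisymm ?_ hV
    rintro _ ⟨Q, rfl⟩ k hk
    show algebraMap G B k ∈ Q.asIdeal
    rw [hK k hk]; exact zero_mem _
  have hclopen : IsClopen (PrimeSpectrum.zeroLocus (K : Set G)) :=
    ⟨PrimeSpectrum.isClosed_zeroLocus _, hr ▸ SpFP87.isOpen_range_comap⟩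
  obtain ⟨e, he, hVe⟩ := PrimeSpectrum.isClopen_iff.mp hclopen
  have hmem : 1 - e ∈ K := by
    have : (1 - e) ∈ K.radical := by
      rw [← PrimeSpectrum.vanishingIdeal_zeroLocus_eq_radical, hVe, PrimeSpectrum.mem_vanishingIdeal]
      intro q hq
      have h0 : e * (1 - e) = 0 := by rw [mul_sub, mul_one, he.eq, sub_self]
      exact (q.isPrime.mem_or_mem (h0 ▸ q.asIdeal.zero_mem : e * (1 - e) ∈ q.asIdeal)).resolve_left hq
    obtain ⟨n, hn⟩ := this
    rcases n with _ | n
    · exact K.eq_top_iff_one.mpr (by simpa using hn) ▸ Submodule.mem_top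
    · rwa [he.one_sub.pow_succ_eq] at hn
  refine ⟨1 - e, le_antisymm (fun k hk => ?_) (K.span_le.mpr (by simpa using hmem))⟩
  have hek : k * e = 0 := by
    by_contra hne
    have hann : LinearMap.ker (LinearMap.toSpanSingleton G G (k * e)) ≠ ⊤ := by
      intro htop
      have h1 : (1 : G) ∈ LinearMap.ker (LinearMap.toSpanSingleton G G (k * e)) := htop ▸ Submodule.mem_top
      simp [LinearMap.mem_ker] at h1
      exact hne h1
    obtain ⟨q, hq, hqJ⟩ := Ideal.exists_le_maximal _ hann
    have he' : (1 - e) ∈ LinearMap.ker (LinearMap.toSpanSingleton G G (k * e)) := by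
      simp [LinearMap.mem_ker, LinearMap.toSpanSingleton_apply, smul_eq_mul]
      linear_combination (-k) * he.eq
    have hqV : (⟨q, hq.isPrime⟩ : PrimeSpectrum G) ∈ PrimeSpectrum.zeroLocus (K : Set G) := by
      rw [hVe, SetLike.mem_coe, PrimeSpectrum.mem_basicOpen]
      intro heq
      have : (1 : G) ∈ q := by simpa using q.add_mem (hqJ he') heq
      exact hq.ne_top ((Ideal.eq_top_iff_one q).mpr this)
    rw [← hr] at hqV
    obtain ⟨Q, hQ⟩ := hqV
    have h0 : (1 : B) ⊗ₜ[G] (k * e) = 0 := by
      rw [show k * e = (k * e) • (1 : G) by simp, TensorProduct.tmul_smul, TensorProduct.smul_tmul',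
        Algebra.smul_def, map_mul, hK k hk]
      simp
    have htop := SpFP87.map_annihilator_eq_top (k * e) h0
    refine Q.isPrime.ne_top (top_le_iff.mp (htop ▸ Ideal.map_le_iff_le_comap.mpr ?_))
    have hQ' : Q.asIdeal.comap (algebraMap G B) = q := congrArg PrimeSpectrum.asIdeal hQ
    rw [hQ']; exact hqJ
  rw [Ideal.mem_span_singleton]
  exact ⟨k, by linear_combination hek⟩

/-- Descent of finite presentation along a cover on the source. -/
theorem finitePresentation_of_fppf_cover (R : Type u) {A B : Type u} [CommRing R] [CommRing A]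
    [CommRing B] [Algebra R A] [Algebra A B] [Algebra R B] [IsScalarTower R A B] [Module.Flat A B]
    (hs : Function.Surjective (PrimeSpectrum.comap (algebraMap A B)))
    [Algebra.FiniteType R A] [Algebra.FinitePresentation R B] : Algebra.FinitePresentation R A := by
  classical
  obtain ⟨n, π, hπ⟩ := Algebra.FiniteType.iff_quotient_mvPolynomial''.mp ‹Algebra.FiniteType R A›
  let P := MvPolynomial (Fin n) R
  let I : Ideal P := RingHom.ker π.toRingHom
  letI : Algebra P A := π.toRingHom.toAlgebra
  letI : Algebra P B := ((algebraMap A B).comp π.toRingHom).toAlgebra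
  haveI : IsScalarTower P A B := IsScalarTower.of_algebraMap_eq fun _ => rfl
  haveI : IsScalarTower R P A := IsScalarTower.of_algebraMap_eq fun x => (π.commutes x).symm
  haveI : IsScalarTower R P B := IsScalarTower.of_algebraMap_eq fun x => by
    show algebraMap R B x = algebraMap A B (π (algebraMap R P x))
    rw [π.commutes, ← IsScalarTower.algebraMap_apply]
  haveI : Algebra.FinitePresentation P B :=
    Algebra.FinitePresentation.of_restrict_scalars_finitePresentation R P B
  -- the stages
  let ι := {J : Ideal P // J.FG ∧ J ≤ I}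
  haveI : Nonempty ι := ⟨⟨⊥, Submodule.fg_bot, bot_le⟩⟩
  haveI : IsDirected ι (· ≤ ·) :=
    ⟨fun a b => ⟨⟨a.1 ⊔ b.1, Submodule.FG.sup a.2.1 b.2.1, sup_le a.2.2 b.2.2⟩, le_sup_left (a := a.1), le_sup_right (b := b.1)⟩⟩
  let G : ι → Type u := fun J => P ⧸ J.1
  let g : ∀ i j : ι, i ≤ j → G i →ₐ[P] G j := fun i j h => Ideal.Quotient.factorₐ P h
  letI algA : ∀ i : ι, Algebra (G i) A := fun i =>
    (Ideal.Quotient.lift i.1 π.toRingHom (fun x hx => i.2.2 hx)).toAlgebra
  haveI : ∀ i : ι, IsScalarTower P (G i) A := fun i => ⟨fun p x a => by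
    obtain ⟨y, rfl⟩ := Ideal.Quotient.mk_surjective x
    show π (p * y) * a = π p * (π y * a)
    rw [map_mul, mul_assoc]⟩
  have hcolim : FlatCA.IsDirectedColimitRing G (fun i j h => (g i j h).toRingHom) A := by
    refine ⟨inferInstance, inferInstance, fun i => ?_, fun i j k hij hjk => ?_, fun i j h => ?_, ?_, ?_⟩
    · exact Ideal.Quotient.ringHom_ext rfl
    · exact Ideal.Quotient.ringHom_ext rfl
    · exact Ideal.Quotient.ringHom_ext rfl
    · intro a
      obtain ⟨p, rfl⟩ := hπ a
      exact ⟨Classical.arbitrary ι, Ideal.Quotient.mk _ p, rfl⟩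
    · intro i x hx
      obtain ⟨p, rfl⟩ := Ideal.Quotient.mk_surjective x
      refine ⟨⟨i.1 ⊔ Ideal.span {p}, Submodule.FG.sup i.2.1 ⟨{p}, by simp⟩,
        sup_le i.2.2 ((Ideal.span_singleton_le_iff_mem _).mpr hx)⟩, le_sup_left (a := i.1), ?_⟩
      exact Ideal.Quotient.eq_zero_iff_mem.mpr (Ideal.mem_sup_right (Ideal.mem_span_singleton_self p))
  haveI : Module.Flat A (A ⊗[P] B) := Module.Flat.of_linearEquiv (tensorEquivOfSurjective P A B hπ)
  obtain ⟨i, hi⟩ := (Stage62.flat_colimit_iff G g A hcolim (B₀ := B) B).mp inferInstance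
  -- the algebra over the stage
  letI : Algebra (G i) B := ((algebraMap A B).comp (algebraMap (G i) A)).toAlgebra
  haveI : IsScalarTower P (G i) B := ⟨fun p x b => by
    obtain ⟨y, rfl⟩ := Ideal.Quotient.mk_surjective x
    show algebraMap A B (π (p * y)) * b = algebraMap A B (π p) * (algebraMap A B (π y) * b)
    rw [map_mul, map_mul, mul_assoc]⟩
  haveI : IsScalarTower R (G i) B := ⟨fun r x b => by
    obtain ⟨y, rfl⟩ := Ideal.Quotient.mk_surjective x
    show algebraMap A B (π (r • y)) * b = r • (algebraMap A B (π y) * b)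
    rw [map_smul, Algebra.smul_def, Algebra.smul_def, map_mul, ← IsScalarTower.algebraMap_apply,
      mul_assoc]⟩
  haveI : Module.Flat (G i) B :=
    Module.Flat.of_linearEquiv (tensorEquivOfSurjective P (G i) B Ideal.Quotient.mk_surjective).symm
  haveI : Algebra.FinitePresentation (G i) B :=
    Algebra.FinitePresentation.of_restrict_scalars_finitePresentation R (G i) B
  obtain ⟨e, he⟩ := ideal_eq_span_of_flat (B := B) (RingHom.ker (algebraMap (G i) A)) (fun k hk => by
      show algebraMap A B (algebraMap (G i) A k) = 0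
      rw [RingHom.mem_ker.mp hk, map_zero]) (by
    intro q hq
    have hsurj : Function.Surjective (algebraMap (G i) A) := fun a => by
      obtain ⟨p, rfl⟩ := hπ a
      exact ⟨Ideal.Quotient.mk _ p, rfl⟩
    have : q ∈ Set.range (PrimeSpectrum.comap (algebraMap (G i) A)) := by
      rw [range_comap_of_surjective A (algebraMap (G i) A) hsurj]; exact hq
    obtain ⟨a, rfl⟩ := this
    obtain ⟨Q, rfl⟩ := hs a
    exact ⟨Q, rfl⟩)
  obtain ⟨e₀, rfl⟩ := Ideal.Quotient.mk_surjective e
  refine Algebra.FinitePresentation.of_surjective hπ ?_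
  have hI : I = i.1 ⊔ Ideal.span {e₀} := by
    ext x
    have hx : x ∈ I ↔ Ideal.Quotient.mk i.1 x ∈ RingHom.ker (algebraMap (G i) A) := Iff.rfl
    rw [hx, he, ← Set.image_singleton, ← Ideal.map_span,
      ← Ideal.mem_comap, Ideal.comap_map_of_surjective _ Ideal.Quotient.mk_surjective,
      ← RingHom.ker_eq_comap_bot, Ideal.mk_ker, sup_comm]
  show I.FG
  rw [hI]
  exact Submodule.FG.sup i.2.1 ⟨{e₀}, by simp⟩

end Groth.Agent.Alg80
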