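import Groth.Agent.Alg80.FPDescent
import Groth.Agent.Desc59.SourceLft

/-!
Being locally of finite presentation descends along fppf covers on the source.
-/

set_option autoImplicit false
set_option backward.isDefEq.respectTransparency false
universe u

open CategoryTheory CategoryTheory.Limits AlgebraicGeometry

namespace Groth.Agent.Alg80

theorem finitePresentation_of_comp {R A B : Type u} [CommRing R] [CommRing A] [CommRing B] (φ : R →+* A)
    (ψ : A →+* B) (h1 : ψ.Flat) (h3 : Function.Surjective (PrimeSpectrum.comap ψ))
    (hφ : φ.FiniteType) (h : (ψ.comp φ).FinitePresentation) : φ.FinitePresentation := by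
  algebraize [φ, ψ, ψ.comp φ]
  have : Module.Flat A B := h1
  have : Algebra.FiniteType R A := hφ
  have : Algebra.FinitePresentation R B := h
  exact finitePresentation_of_fppf_cover R h3

/-- Descent of "locally of finite presentation" along a surjective fppf morphism on the source. -/
theorem lfp_of_comp {X' X Y : Scheme.{u}} (c : X' ⟶ X) (f : X ⟶ Y) [Flat c]
    [LocallyOfFinitePresentation c] [Surjective c] [LocallyOfFinitePresentation (c ≫ f)] :
    LocallyOfFinitePresentation f := by
  have hft : LocallyOfFiniteType f := Desc59.lft_of_comp c f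
  refine HasRingHomProperty.iff_appLE.2 fun U V e => ?_
  let g : (V.1 : X.Opens).toScheme ⟶ (U.1 : Y.Opens).toScheme := f.resLE U.1 V.1 e
  have : IsAffine (V.1 : X.Opens).toScheme := V.2
  have : IsAffine (U.1 : Y.Opens).toScheme := U.2
  have : Surjective (c ∣_ V.1) := IsZariskiLocalAtTarget.restrict ‹Surjective c› _
  have : LocallyOfFinitePresentation ((c ∣_ V.1) ≫ g) := by
    have h' : ((c ∣_ V.1) ≫ g) ≫ (U.1 : Y.Opens).ι = (c ⁻¹ᵁ V.1).ι ≫ c ≫ f := by
      rw [Category.assoc, Scheme.Hom.resLE_comp_ι, morphismRestrict_ι_assoc]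
    have : LocallyOfFinitePresentation (((c ∣_ V.1) ≫ g) ≫ (U.1 : Y.Opens).ι) := by
      rw [h']; infer_instance
    exact MorphismProperty.of_postcomp (W := @LocallyOfFinitePresentation) (W' := @IsOpenImmersion)
      _ (U.1 : Y.Opens).ι inferInstance this
  obtain ⟨W, σ, _, hσ, hσ', hσs⟩ := Desc59.exists_affine_fppf (c ∣_ V.1)
  let d := σ ≫ (c ∣_ V.1)
  have hdg : LocallyOfFinitePresentation (d ≫ g) := by
    rw [Category.assoc]
    infer_instance
  rw [HasRingHomProperty.iff_of_isAffine (P := @LocallyOfFinitePresentation), Scheme.Hom.comp_appTop,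
    CommRingCat.hom_comp] at hdg
  have hg : RingHom.FiniteType g.appTop.hom := by
    have : LocallyOfFiniteType g := by
      have : LocallyOfFiniteType (g ≫ (U.1 : Y.Opens).ι) := by
        rw [Scheme.Hom.resLE_comp_ι]; infer_instance
      exact locallyOfFiniteType_of_comp g (U.1 : Y.Opens).ι
    exact (HasRingHomProperty.iff_of_isAffine (P := @LocallyOfFiniteType)).1 this
  have h1 : RingHom.Flat d.appTop.hom :=
    (HasRingHomProperty.iff_of_isAffine (P := @Flat)).1 (inferInstanceAs (Flat (σ ≫ _)))
  have h3 : Function.Surjective (PrimeSpectrum.comap d.appTop.hom) := by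
    have : Surjective (Spec.map d.appTop) := by
      have : Spec.map d.appTop = W.isoSpec.inv ≫ d ≫ (V.1 : X.Opens).toScheme.isoSpec.hom := by
        rw [← Scheme.isoSpec_hom_naturality, Iso.inv_hom_id_assoc]
      rw [this]
      infer_instance
    exact (Spec.map d.appTop).surjective
  have := RingHom.toMorphismProperty_respectsIso_iff.mp
    (HasRingHomProperty.isLocal_ringHomProperty @LocallyOfFinitePresentation
      (Q := RingHom.FinitePresentation)).respectsIso
  exact (MorphismProperty.arrow_mk_iso_iff (RingHom.toMorphismProperty RingHom.FinitePresentation)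
    (arrowResLEAppIso f U.1 V.1 e)).1 (finitePresentation_of_comp _ _ h1 h3 hg hdg)

end Groth.Agent.Alg80
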