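import Mathlib
import Groth.Agent.SpPts86.SliceRing

/-!
Quasi-finite flat quasi-sections of faithfully flat algebras of finite presentation.
-/

universe u

set_option autoImplicit false

namespace Groth.Agent.Alg80.QuasiSection

open TensorProduct RingTheory.Sequence

/-- In an algebra of finite type over a field there is, above a given proper ideal, a maximal
ideal which is not associated, unless the quotient is Artinian. -/
theorem exists_maximal_notMem_ass {k G : Type u} [Field k] [CommRing G] [Algebra k G]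
    [Algebra.FiniteType k G] (hG : ¬ Ring.KrullDimLE 0 G) :
    ∃ m : Ideal G, m.IsMaximal ∧ m ∉ associatedPrimes G G := by
  haveI : IsNoetherianRing G := Algebra.FiniteType.isNoetherianRing k G
  haveI : IsJacobsonRing G := isJacobsonRing_of_finiteType (A := k)
  by_contra h
  push Not at h
  refine hG (Ring.KrullDimLE.mk₀ fun P hP => ?_)
  have hfin : {m : Ideal G | P ≤ m ∧ m.IsMaximal}.Finite :=
    (associatedPrimes.finite G G).subset fun m hm => h m hm.2
  have hjac : P.jacobson = P := IsJacobsonRing.out ‹IsJacobsonRing G› hP.isRadical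
  have hle : hfin.toFinset.inf id ≤ P := by
    conv_rhs => rw [← hjac]
    exact le_sInf fun m hm => Finset.inf_le (f := id) (hfin.mem_toFinset.mpr hm)
  obtain ⟨m, hm, hmP⟩ := (Ideal.IsPrime.inf_le' hP).mp hle
  obtain ⟨hPm, hmmax⟩ := hfin.mem_toFinset.mp hm
  have e : m = P := le_antisymm hmP hPm
  exact e ▸ hmmax

/-- Appending a nonzerodivisor of the quotient to a weakly regular sequence. -/
theorem isWeaklyRegular_append_singleton {F : Type u} [CommRing F] (rs : List F) (y : F)
    (hreg : IsWeaklyRegular F rs)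
    (hy : Ideal.Quotient.mk (Ideal.ofList rs) y ∈ nonZeroDivisors (F ⧸ Ideal.ofList rs)) :
    IsWeaklyRegular F (rs ++ [y]) := by
  refine ⟨fun i hi => ?_⟩
  by_cases hlast : i < rs.length
  · rw [List.take_append_of_le_length hlast.le, List.getElem_append_left hlast]
    exact hreg.regular_mod_prev i hlast
  · have hie : i = rs.length := by
      rw [List.length_append, List.length_singleton] at hi; omega
    subst hie
    rw [List.take_left, List.getElem_append_right le_rfl]
    simp only [Nat.sub_self, List.getElem_cons_zero]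
    rw [Ideal.smul_eq_mul, Ideal.mul_top]
    intro z w hzw
    change y • z = y • w at hzw
    obtain ⟨z, rfl⟩ := Ideal.Quotient.mk_surjective z
    obtain ⟨w, rfl⟩ := Ideal.Quotient.mk_surjective w
    have h' : Ideal.Quotient.mk (Ideal.ofList rs) y * Ideal.Quotient.mk _ (z - w) = 0 := by
      rw [map_sub, mul_sub, sub_eq_zero]; exact hzw
    rw [← sub_eq_zero, ← map_sub]
    exact (mem_nonZeroDivisors_iff.mp hy).1 _ h'

/-- Cutting a fibre down to dimension zero by a regular sequence. -/
theorem exists_regular_cut {R A : Type u} [CommRing R] [CommRing A] [Algebra R A]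
    [Algebra.FiniteType R A] (p : Ideal R) [p.IsPrime] [Nontrivial (p.Fiber A)] :
    ∃ gs : List A, IsWeaklyRegular (p.Fiber A) (gs.map fun g => (1 : p.ResidueField) ⊗ₜ[R] g) ∧
      Nontrivial (p.Fiber A ⧸ Ideal.ofList (gs.map fun g => (1 : p.ResidueField) ⊗ₜ[R] g)) ∧
      Ring.KrullDimLE 0 (p.Fiber A ⧸ Ideal.ofList (gs.map fun g => (1 : p.ResidueField) ⊗ₜ[R] g)) := by
  let F := p.Fiber A
  haveI : IsNoetherianRing F := Algebra.FiniteType.isNoetherianRing p.ResidueField F
  suffices key : ∀ I : Ideal F, ∀ gs : List A, I = Ideal.ofList (gs.map fun g => (1 : p.ResidueField) ⊗ₜ[R] g) →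
      I ≠ ⊤ → IsWeaklyRegular F (gs.map fun g => (1 : p.ResidueField) ⊗ₜ[R] g) →
      ∃ gs' : List A, IsWeaklyRegular F (gs'.map fun g => (1 : p.ResidueField) ⊗ₜ[R] g) ∧
      Nontrivial (F ⧸ Ideal.ofList (gs'.map fun g => (1 : p.ResidueField) ⊗ₜ[R] g)) ∧
      Ring.KrullDimLE 0 (F ⧸ Ideal.ofList (gs'.map fun g => (1 : p.ResidueField) ⊗ₜ[R] g)) by
    exact key ⊥ [] (by simp) bot_ne_top (IsWeaklyRegular.nil F F)
  intro I
  induction I using WellFoundedGT.induction with
  | ind I ih =>
    intro gs hI hne hreg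
    haveI : Nontrivial (F ⧸ I) := Ideal.Quotient.nontrivial_iff.mpr hne
    by_cases hdim : Ring.KrullDimLE 0 (F ⧸ I)
    · subst hI
      exact ⟨gs, hreg, inferInstance, hdim⟩
    obtain ⟨m, hm, hass⟩ := exists_maximal_notMem_ass (k := p.ResidueField) (G := F ⧸ I) hdim
    obtain ⟨g, hgm, hg⟩ : ∃ g ∈ m, g ∈ nonZeroDivisors (F ⧸ I) := by
      by_contra! hc
      have hsub : (m : Set (F ⧸ I)) ⊆ ⋃ q ∈ ((associatedPrimes.finite (F ⧸ I) (F ⧸ I)).toFinset :
          Set (Ideal (F ⧸ I))), (id q : Set (F ⧸ I)) := by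
        intro x hx
        have : x ∈ ⋃ q ∈ associatedPrimes (F ⧸ I) (F ⧸ I), (q : Set (F ⧸ I)) := by
          rw [biUnion_associatedPrimes_eq_compl_nonZeroDivisors]
          exact hc x hx
        simpa using this
      obtain ⟨q, hq, hle⟩ := (Ideal.subset_union_prime ⊥ ⊥ fun q hq _ _ =>
        ((associatedPrimes.finite (F ⧸ I) (F ⧸ I)).mem_toFinset.1 hq).isPrime).1 hsub
      have hq' := (associatedPrimes.finite (F ⧸ I) (F ⧸ I)).mem_toFinset.1 hq
      exact hass (by rwa [hm.eq_of_le hq'.isPrime.ne_top hle])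
    obtain ⟨x, rfl⟩ := Ideal.Quotient.mk_surjective g
    obtain ⟨r, hr, a, ha⟩ := Ideal.Fiber.exists_smul_eq_one_tmul p x
    have hu : IsUnit (algebraMap R F r) := by
      rw [IsScalarTower.algebraMap_apply R p.ResidueField F]
      exact ((Ne.isUnit (fun h0 => hr (Ideal.algebraMap_residueField_eq_zero.mp h0)))).map _
    let y : F := (1 : p.ResidueField) ⊗ₜ[R] a
    have hy : y = algebraMap R F r * x := by rw [← Algebra.smul_def, ha]
    have hym : Ideal.Quotient.mk I y ∈ m := by
      rw [hy, map_mul]; exact m.mul_mem_left _ hgm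
    have hyreg : Ideal.Quotient.mk I y ∈ nonZeroDivisors (F ⧸ I) := by
      rw [hy, map_mul]; exact mul_mem (hu.map _).mem_nonZeroDivisors hg
    let J : Ideal F := Ideal.ofList ((gs ++ [a]).map fun g => (1 : p.ResidueField) ⊗ₜ[R] g)
    have hJ : J = I ⊔ Ideal.span {y} := by
      simp only [J, List.map_append, List.map_cons, List.map_nil, Ideal.ofList_append,
        Ideal.ofList_singleton, hI, y]
      rfl
    have hJle : J ≤ m.comap (Ideal.Quotient.mk I) := by
      rw [hJ, sup_le_iff, Ideal.span_le, Set.singleton_subset_iff]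
      refine ⟨fun z hz => ?_, hym⟩
      rw [Ideal.mem_comap, Ideal.Quotient.eq_zero_iff_mem.mpr hz]
      exact m.zero_mem
    have hJne : J ≠ ⊤ := fun h => (Ideal.comap_ne_top _ hm.ne_top) (eq_top_iff.mpr (h ▸ hJle))
    have hlt : I < J := by
      refine lt_of_le_of_ne (hJ ▸ le_sup_left) fun h => ?_
      have : Ideal.Quotient.mk I y = 0 := Ideal.Quotient.eq_zero_iff_mem.mpr
        (h ▸ hJ ▸ Ideal.mem_sup_right (Ideal.mem_span_singleton_self y))
      exact nonZeroDivisors.coe_ne_zero ⟨_, hyreg⟩ this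
    refine ih J hlt (gs ++ [a]) rfl hJne ?_
    rw [List.map_append, List.map_singleton]
    refine isWeaklyRegular_append_singleton _ y hreg ?_
    rw [← hI]
    exact hyreg

/-- A flat algebra of finite presentation has, over every point in its image, a flat quasi-finite
quasi-section. -/
theorem exists_quasiSection {R A : Type u} [CommRing R] [CommRing A] [Algebra R A]
    [Algebra.FinitePresentation R A] [Module.Flat R A] (p : PrimeSpectrum R)
    (hp : p ∈ Set.range (PrimeSpectrum.comap (algebraMap R A))) :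
    ∃ (B : Type u) (_ : CommRing B) (_ : Algebra R B) (_ : A →ₐ[R] B),
      Algebra.FinitePresentation R B ∧ Module.Flat R B ∧ Algebra.QuasiFinite R B ∧
      p ∈ Set.range (PrimeSpectrum.comap (algebraMap R B)) := by
  obtain ⟨P, hP⟩ := hp
  haveI : Nontrivial (p.asIdeal.Fiber A) :=
    ⟨⟨0, 1, fun h01 => (PrimeSpectrum.preimageEquivFiber R A p ⟨P, hP⟩).isPrime.ne_top
      ((Ideal.eq_top_iff_one _).mpr (by rw [← h01]; exact zero_mem _))⟩⟩
  obtain ⟨gs, hreg, hnt, hdim⟩ := exists_regular_cut (A := A) p.asIdeal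
  let F := p.asIdeal.Fiber A
  let J : Ideal F := Ideal.ofList (gs.map fun g => (1 : p.asIdeal.ResidueField) ⊗ₜ[R] g)
  obtain ⟨Q, hQ, hJQ⟩ := Ideal.exists_le_maximal J (Ideal.Quotient.nontrivial_iff.mp hnt)
  have hregQ : IsWeaklyRegular (Localization.AtPrime Q)
      (gs.map fun g => algebraMap F (Localization.AtPrime Q) ((1 : p.asIdeal.ResidueField) ⊗ₜ g)) := by
    have := IsWeaklyRegular.of_isLocalization (Localization.AtPrime Q) Q.primeCompl hreg
    rwa [List.map_map] at this
  obtain ⟨h, hhQ, hflat⟩ := SpPts86.exists_flat_away gs Q hregQ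
  let B₁ := A ⧸ Ideal.ofList gs
  have hfg : (Ideal.ofList gs).FG := by
    classical
    exact ⟨gs.toFinset, congrArg Ideal.span (Set.ext fun x => List.mem_toFinset)⟩
  haveI : Algebra.FinitePresentation R B₁ := Algebra.FinitePresentation.quotient hfg
  -- the fibre of `B₁`
  let Φ : F →ₐ[p.asIdeal.ResidueField] p.asIdeal.Fiber B₁ :=
    Algebra.TensorProduct.map (AlgHom.id _ _) (Ideal.Quotient.mkₐ R _)
  have hΦker : RingHom.ker Φ = J := by
    show RingHom.ker (Algebra.TensorProduct.map (AlgHom.id p.asIdeal.ResidueField p.asIdeal.ResidueField)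
      (Ideal.Quotient.mkₐ R (Ideal.ofList gs))) = J
    refine (Algebra.TensorProduct.lTensor_ker (Ideal.Quotient.mkₐ R (Ideal.ofList gs))
      Ideal.Quotient.mk_surjective).trans ?_
    rw [show RingHom.ker (Ideal.Quotient.mkₐ R (Ideal.ofList gs)) = Ideal.ofList gs from Ideal.mk_ker,
      Ideal.ofList, Ideal.map_span]
    simp only [J, Ideal.ofList]
    congr 1
    ext z
    simp
    exact Iff.rfl
  have hΦsurj : Function.Surjective Φ := by
    intro z
    induction z using TensorProduct.induction_on with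
    | zero => exact ⟨0, map_zero _⟩
    | tmul x b => obtain ⟨a, rfl⟩ := Ideal.Quotient.mk_surjective b; exact ⟨x ⊗ₜ a, Algebra.TensorProduct.map_tmul _ _ _ _⟩
    | add u v hu hv =>
      obtain ⟨u', rfl⟩ := hu; obtain ⟨v', rfl⟩ := hv; exact ⟨u' + v', map_add _ _ _⟩
  haveI : Module.Finite p.asIdeal.ResidueField (F ⧸ J) := by
    haveI := hdim
    haveI : IsNoetherianRing F := Algebra.FiniteType.isNoetherianRing p.asIdeal.ResidueField F
    haveI : IsArtinianRing (F ⧸ J) :=
      isArtinianRing_iff_isNoetherianRing_krullDimLE_zero.mpr ⟨inferInstance, hdim⟩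
    exact (Module.finite_iff_isArtinianRing p.asIdeal.ResidueField (F ⧸ J)).mpr inferInstance
  haveI : Module.Finite p.asIdeal.ResidueField (p.asIdeal.Fiber B₁) := by
    refine Module.Finite.of_surjective
      (Ideal.Quotient.liftₐ J Φ fun a ha => by rw [← hΦker] at ha; exact ha).toLinearMap ?_
    intro z
    obtain ⟨y, rfl⟩ := hΦsurj z
    exact ⟨Ideal.Quotient.mk J y, rfl⟩
  let Q₁ : Ideal (p.asIdeal.Fiber B₁) := Q.map Φ
  haveI hQ₁ : Q₁.IsPrime := Ideal.map_isPrime_of_surjective hΦsurj (hΦker ▸ hJQ)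
  have hQ₁' : Q₁.comap Φ = Q := by
    rw [Ideal.comap_map_of_surjective' _ hΦsurj, sup_eq_left]
    exact hΦker ▸ hJQ
  let q : Ideal B₁ := Q₁.comap (Algebra.TensorProduct.includeRight :
    B₁ →ₐ[R] p.asIdeal.Fiber B₁).toRingHom
  haveI hqp : q.LiesOver p.asIdeal :=
    (PrimeSpectrum.preimageEquivFiber R B₁ p).symm ⟨Q₁, hQ₁⟩ |>.2 |> fun e =>
      ⟨(congrArg PrimeSpectrum.asIdeal e).symm⟩
  haveI : Algebra.QuasiFiniteAt R q :=
    Algebra.QuasiFiniteAt.of_quasiFiniteAt_residueField p.asIdeal q Q₁ rfl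
  obtain ⟨S', hS', r, hrq, hbij⟩ :=
    Algebra.QuasiFiniteAt.exists_fg_and_exists_notMem_and_awayMap_bijective (R := R) q
  let h₁ : B₁ := Ideal.Quotient.mk _ h
  have hh₁ : h₁ ∉ q := by
    intro hc
    apply hhQ
    rw [← hQ₁']
    exact hc
  let B := Localization.Away (h₁ * r.1)
  refine ⟨B, inferInstance, inferInstance,
    (IsScalarTower.toAlgHom R B₁ B).comp (Ideal.Quotient.mkₐ R _), ?_, ?_, ?_, ?_⟩
  · haveI : Algebra.FinitePresentation B₁ B := IsLocalization.Away.finitePresentation (h₁ * r.1)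
    exact Algebra.FinitePresentation.trans R B₁ B
  · haveI := hflat
    let C := Localization.Away h₁
    haveI : IsLocalization.Away (algebraMap B₁ C r.1) (Localization.Away (algebraMap B₁ C r.1)) :=
      inferInstance
    haveI : IsLocalization.Away (h₁ * r.1) (Localization.Away (algebraMap B₁ C r.1)) :=
      IsLocalization.Away.mul' C _ h₁ r.1
    let e : Localization.Away (algebraMap B₁ C r.1) ≃ₐ[B₁] B :=
      IsLocalization.algEquiv (Submonoid.powers (h₁ * r.1)) _ _
    haveI : Module.Flat R (Localization.Away (algebraMap B₁ C r.1)) :=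
      Module.Flat.trans R C _
    exact Module.Flat.of_linearEquiv (e.symm.toLinearEquiv.restrictScalars R)
  · haveI : Module.Finite R S' := ⟨(Submodule.fg_top _).mpr hS'⟩
    haveI : Algebra.QuasiFinite R (Localization.Away r) := .trans _ S' _
    haveI : Algebra.QuasiFinite R (Localization.Away r.1) :=
      .of_surjective_algHom (Localization.awayMapₐ S'.val r) hbij.2
    have hru : IsUnit (algebraMap B₁ B r.1) :=
      isUnit_of_mul_isUnit_right (x := algebraMap B₁ B h₁) (by
        rw [← map_mul]; exact IsLocalization.Away.algebraMap_isUnit (h₁ * r.1))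
    have hhu : IsUnit (algebraMap B₁ B h₁) :=
      isUnit_of_mul_isUnit_left (y := algebraMap B₁ B r.1) (by
        rw [← map_mul]; exact IsLocalization.Away.algebraMap_isUnit (h₁ * r.1))
    let f : Localization.Away r.1 →ₐ[B₁] B :=
      IsLocalization.Away.liftAlgHom r.1 (f := Algebra.ofId B₁ B) hru
    refine Algebra.QuasiFinite.of_forall_exists_mul_mem_range (f.restrictScalars R) fun x => ?_
    obtain ⟨a, ⟨_, n, rfl⟩, rfl⟩ := IsLocalization.exists_mk'_eq (Submonoid.powers (h₁ * r.1)) x
    refine ⟨algebraMap B₁ _ ((h₁ * r.1) ^ n), ?_, ⟨algebraMap B₁ _ a, ?_⟩⟩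
    · rw [AlgHom.restrictScalars_apply, AlgHom.commutes]
      exact (IsLocalization.Away.algebraMap_isUnit (h₁ * r.1)).pow n |> fun h' => by rwa [map_pow]
    · simp only [AlgHom.restrictScalars_apply, AlgHom.commutes]
      show f (algebraMap B₁ (Localization.Away r.1) a) = _
      rw [f.commutes]
      exact (IsLocalization.mk'_spec B a (⟨_, n, rfl⟩ : Submonoid.powers (h₁ * r.1))).symm
  · have hne : h₁ * r.1 ∉ q := fun hc => (Ideal.IsPrime.mem_or_mem inferInstance hc).elim hh₁ hrq
    obtain ⟨P', hP'⟩ : (⟨q, inferInstance⟩ : PrimeSpectrum B₁) ∈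
        Set.range (PrimeSpectrum.comap (algebraMap B₁ B)) := by
      rw [PrimeSpectrum.localization_away_comap_range B (h₁ * r.1)]
      exact hne
    refine ⟨P', PrimeSpectrum.ext ?_⟩
    rw [IsScalarTower.algebraMap_eq R B₁ B, PrimeSpectrum.comap_comp, Function.comp_apply, hP']
    exact hqp.over.symm

end Groth.Agent.Alg80.QuasiSection
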